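import Groth.Agent.PureRepLib.Local
import Groth.Agent.FibreDepth.Loci
import Groth.Agent.DCohLib.FTLocal

/-!
Flatness in dimensions at least `n` for proper morphisms.
-/

set_option autoImplicit false
set_option linter.style.haveILetI false
set_option backward.isDefEq.respectTransparency false
set_option backward.isDefEq.respectTransparency.types false
set_option backward.defeqAttrib.useBackward true
set_option maxHeartbeats 1600000

universe u

open CategoryTheory CategoryTheory.Limits AlgebraicGeometry TopologicalSpace Topology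
open scoped TensorProduct

noncomputable section

namespace Groth.Agent.PureRep

variable {X S : Scheme.{u}} (f : X ⟶ S) (F : X.Modules) [Coh.IsQCoh F]

/-- Flatness in dimensions at least `n` after a base change. -/
def PX (n : ℕ) ⦃T : Scheme.{u}⦄ (u : T ⟶ S) : Prop := GenFreeLocus.FlatDimGE f F n (Over.mk u)

omit [Coh.IsQCoh F] in
theorem PX_mono {n m : ℕ} (h : n ≤ m) ⦃T : Scheme.{u}⦄ (u : T ⟶ S) (hu : PX f F n u) : PX f F m u :=
  fun x hx => (hu x hx).trans_le (Nat.cast_le.2 h)

variable [LocallyOfFiniteType f]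

theorem isGood_PX (n : ℕ) : IsGood (PX f F n) where
  comp T' T a u h := GenFreeLocus.flatDimGE_stable f F n (Over.homMk a : Over.mk (a ≫ u) ⟶ Over.mk u) h
  desc T u h := GenFreeLocus.flatDimGE_desc f F n (Over.mk u) fun t => by
    obtain ⟨T', g, hg, ht, hP⟩ := h t
    exact ⟨Over.mk (g ≫ u), Over.homMk g, hg, ht, hP⟩

omit [Coh.IsQCoh F] in
theorem RepMono.comp {S' : Scheme.{u}} (g : S' ⟶ S) {P : ∀ ⦃T : Scheme.{u}⦄, (T ⟶ S) → Prop}
    {Q : ∀ ⦃T : Scheme.{u}⦄, (T ⟶ S') → Prop} (hQP : ∀ ⦃T : Scheme.{u}⦄ (u : T ⟶ S'), Q u ↔ P (u ≫ g))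
    {V : Scheme.{u}} {i : V ⟶ S'} (h : RepMono Q i) : RepMono P (i ≫ g) := by
  obtain ⟨Z, e, h1, h2, h3, h4⟩ := h
  refine ⟨Z, e, h1, h2, h3, fun T v => (h4 T v).trans ?_⟩
  rw [hQP, Category.assoc]

/-- Compatibility with base change. -/
theorem PX_bc {X' S' : Scheme.{u}} {g' : X' ⟶ X} {f' : X' ⟶ S'} {g : S' ⟶ S} (sq : IsPullback g' f' f g) (n : ℕ)
    ⦃T : Scheme.{u}⦄ (u : T ⟶ S') :
    PX f' ((Scheme.Modules.pullback g').obj F) n u ↔ PX f F n (u ≫ g) := by
  haveI : LocallyOfFiniteType f' := MorphismProperty.of_isPullback sq inferInstance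
  have hp := (IsPullback.of_hasPullback f' u).flip.flip
  have sq' : IsPullback (pullback.fst f' u ≫ g') (pullback.snd f' u) f (u ≫ g) :=
    ((IsPullback.of_hasPullback f' u).flip.paste_vert sq.flip).flip
  let e := sq'.isoPullback
  have he1 : e.hom ≫ pullback.fst f (u ≫ g) = pullback.fst f' u ≫ g' := sq'.isoPullback_hom_fst
  have he2 : e.hom ≫ pullback.snd f (u ≫ g) = pullback.snd f' u := sq'.isoPullback_hom_snd
  let eF : (Scheme.Modules.pullback e.hom).obj (FGA.ET f F (Over.mk (u ≫ g))) ≅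
      FGA.ET f' ((Scheme.Modules.pullback g').obj F) (Over.mk u) :=
    (Scheme.Modules.pullbackComp e.hom (pullback.fst f (u ≫ g))).app F ≪≫
      (Scheme.Modules.pullbackCongr he1).app F ≪≫ ((Scheme.Modules.pullbackComp (pullback.fst f' u) g').app F).symm
  haveI : Coh.IsQCoh (FGA.ET f F (Over.mk (u ≫ g))) := PullbackMod.isQCoh_pullback (pullback.fst f (u ≫ g)) F
  have hflat : ∀ z, FlatMod.IsFlatOverAt (pullback.snd f' u) (FGA.ET f' ((Scheme.Modules.pullback g').obj F) (Over.mk u)) z ↔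
      FlatMod.IsFlatOverAt (pullback.snd f (u ≫ g)) (FGA.ET f F (Over.mk (u ≫ g))) (e.hom z) := fun z => by
    rw [← PullbackMod.isFlatOverAt_pullback_comp_iff e.hom (pullback.snd f (u ≫ g)) _ z (Flat.stalkMap _ z), he2]
    exact ⟨fun h => PullbackMod.isFlatOverAt_of_iso eF.symm _ z h, fun h => PullbackMod.isFlatOverAt_of_iso eF _ z h⟩
  have htr : ∀ z, Dual3.resTrdeg (pullback.snd f' u) z = Dual3.resTrdeg (pullback.snd f (u ≫ g)) (e.hom z) := fun z => by
    rw [← he2]
    exact (FlatDim.resTrdegAt_comp _ _ _).trans (by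
      rw [GenIrredLib.resTrdegAt_locallyQuasiFinite e.hom, add_zero]; rfl)
  constructor
  · intro h x hx
    obtain ⟨z, rfl⟩ := e.hom.surjective x
    exact (htr z).symm.trans_lt (h z fun hz => hx ((hflat z).1 hz))
  · intro h z hz
    exact (htr z).trans_lt (h _ fun hx => hz ((hflat z).2 hx))

/-- The condition on an étale scheme over the source. -/
theorem PX_etale {X' : Scheme.{u}} (h : X' ⟶ X) [Etale h] (n : ℕ) ⦃T : Scheme.{u}⦄ (u : T ⟶ S) (hu : PX f F n u) :
    PX (h ≫ f) ((Scheme.Modules.pullback h).obj F) n u :=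
  EtaleDim.dimFibresLT_pullback f h (Over.mk u) F n hu

/-- The condition may be tested on étale schemes covering the points over the image. -/
theorem PX_of_cover {ι : Type} (X' : ι → Scheme.{u}) (h : ∀ j, X' j ⟶ X) [∀ j, Etale (h j)] (n : ℕ)
    ⦃T : Scheme.{u}⦄ (u : T ⟶ S) (hcov : ∀ x, f x ∈ Set.range u → ∃ j, x ∈ Set.range (h j))
    (hu : ∀ j, PX (h j ≫ f) ((Scheme.Modules.pullback (h j)).obj F) n u) : PX f F n u := by
  intro y hy
  obtain ⟨j, w₀, hw₀⟩ := hcov (pullback.fst f u y) ⟨pullback.snd f u y, by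
    rw [← Scheme.Hom.comp_apply, ← pullback.condition, Scheme.Hom.comp_apply]⟩
  obtain ⟨w, -, rfl⟩ := Scheme.exists_preimage_of_isPullback (EtaleDim.isPullback_φT f (h j) (Over.mk u)) w₀ y hw₀
  exact (EtaleDim.trdeg_eq f (h j) (Over.mk u) w).symm.trans_lt
    (hu j w fun h1 => hy ((EtaleDim.flatAt_iff f (h j) (Over.mk u) F w).1 h1))

omit [LocallyOfFiniteType f] [Coh.IsQCoh F] in
theorem PX_eq_P {A C : Type u} [CommRing A] [CommRing C] [Algebra A C] {f : X ⟶ Spec (CommRingCat.of A)}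
    (h : Spec (CommRingCat.of C) ⟶ X) (hh : h ≫ f = fB A C) (L : Type u) [AddCommGroup L] [Module C L]
    (e : (Scheme.Modules.pullback h).obj F ≅ FN C L) (n : ℕ) ⦃T : Scheme.{u}⦄ (u : T ⟶ Spec (CommRingCat.of A)) :
    PX (h ≫ f) ((Scheme.Modules.pullback h).obj F) n u ↔ P A C L n u :=
  flatDimGE_congr hh e n (Over.mk u)

/-- An affine étale covering of a quasi-compact scheme of finite presentation over an affine base. -/
theorem exists_affine_cover {A : Type u} [CommRing A] (f : X ⟶ Spec (CommRingCat.of A)) [QuasiCompact f]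
    [LocallyOfFinitePresentation f] (hF : CohB1.IsFP F) :
    ∃ (B : Type u) (_ : CommRing B) (_ : Algebra A B) (_ : Algebra.FinitePresentation A B)
      (N : Type u) (_ : AddCommGroup N) (_ : Module B N) (_ : Module.FinitePresentation B N)
      (h : Spec (CommRingCat.of B) ⟶ X), Etale h ∧ Surjective h ∧ h ≫ f = fB A B ∧
        Nonempty ((Scheme.Modules.pullback h).obj F ≅ FN B N) := by
  haveI : CompactSpace X := QuasiCompact.compactSpace_of_compactSpace f
  let 𝒰 := X.affineCover.finiteSubcover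
  haveI : ∀ i, IsAffine (𝒰.X i) := fun i => by
    show IsAffine (X.affineCover.X _)
    infer_instance
  let Y : Scheme.{u} := ∐ 𝒰.X
  haveI : IsAffine Y := inferInstanceAs (IsAffine (∐ 𝒰.X))
  let B := Γ(Y, ⊤)
  let h : Spec B ⟶ X := Y.isoSpec.inv ≫ Limits.Sigma.desc 𝒰.f
  haveI : Etale (Limits.Sigma.desc 𝒰.f) := IsZariskiLocalAtSource.sigmaDesc fun i => (inferInstance : Etale (𝒰.f i))
  haveI : Surjective (Limits.Sigma.desc 𝒰.f) := ⟨fun x => by
    obtain ⟨i, w, hw⟩ := 𝒰.exists_eq x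
    refine ⟨Limits.Sigma.ι 𝒰.X i w, ?_⟩
    rw [← Scheme.Hom.comp_apply, Sigma.ι_desc]
    exact hw⟩
  haveI : Etale h := inferInstance
  haveI : Surjective h := inferInstance
  obtain ⟨φ, hφ⟩ : ∃ φ : CommRingCat.of A ⟶ B, Spec.map φ = h ≫ f := ⟨_, Spec.map_preimage _⟩
  letI : Algebra A B := φ.hom.toAlgebra
  have hfp : LocallyOfFinitePresentation (Spec.map φ) := by rw [hφ]; infer_instance
  haveI : Algebra.FinitePresentation A B := (HasRingHomProperty.Spec_iff (P := @LocallyOfFinitePresentation)).1 hfp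
  let G := (Scheme.Modules.pullback h).obj F
  haveI : Coh.IsQCoh G := PullbackMod.isQCoh_pullback h F
  haveI : IsIso G.fromTildeΓ := (isQuasicoherent_iff_isIso_fromTildeΓ _).mp ‹Coh.IsQCoh G›
  let M : ModuleCat.{u} B := moduleSpecΓFunctor.obj G
  haveI : Module.FinitePresentation B M := (TildeFinLib.isFP_tilde_iff M).1
    (DCohLib.isFP_iso (asIso G.fromTildeΓ).symm (PullbackMod.isFP_pullback h F hF))
  exact ⟨B, inferInstance, inferInstance, inferInstance, M, inferInstance, inferInstance, inferInstance, h,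
    inferInstance, inferInstance, hφ.symm, ⟨(asIso G.fromTildeΓ).symm⟩⟩

/-- From an étale neighbourhood to a Zariski neighbourhood. -/
theorem repMono_near_of_etale {A A' : Type u} [CommRing A] [CommRing A'] [Algebra A A'] [Algebra.Etale A A']
    {P : ∀ ⦃T : Scheme.{u}⦄, (T ⟶ Spec (CommRingCat.of A)) → Prop} (hP : IsGood P) (s : Ideal A) [s.IsPrime]
    (p' : Ideal A') [p'.IsPrime] [p'.LiesOver s] (g' : A') (hg' : g' ∉ p')
    (hW : RepMono P (Spec.map (CommRingCat.ofHom (algebraMap A' (Localization.Away g'))) ≫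
      Spec.map (CommRingCat.ofHom (algebraMap A A')))) :
    ∃ g : A, g ∉ s ∧ RepMono P (Spec.map (CommRingCat.ofHom (algebraMap A (Localization.Away g)))) := by
  let L' := Localization.Away g'
  let ι' := Spec.map (CommRingCat.ofHom (algebraMap A' L'))
  let a := Spec.map (CommRingCat.ofHom (algebraMap A A'))
  obtain ⟨_, ⟨γ, rfl⟩, hγs, hγ⟩ := (PrimeSpectrum.isTopologicalBasis_basic_opens (R := A)).exists_subset_of_mem_open
    (show (⟨s, inferInstance⟩ : PrimeSpectrum A) ∈
      PrimeSpectrum.comap (algebraMap A A') '' (PrimeSpectrum.basicOpen g' : Set _) from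
      ⟨⟨p', inferInstance⟩, hg', PrimeSpectrum.ext (p'.over_def s).symm⟩)
    (PrimeSpectrum.isOpenMap_comap_of_hasGoingDown_of_finitePresentation _ (PrimeSpectrum.basicOpen g').2)
  refine ⟨γ, hγs, ?_⟩
  let κ := Spec.map (CommRingCat.ofHom (algebraMap A (Localization.Away γ)))
  have hflat' : Flat (ι' ≫ a) := by
    haveI : Flat ι' := HasRingHomProperty.Spec_iff.2 (RingHom.flat_algebraMap_iff.2 inferInstance)
    haveI : Flat a := HasRingHomProperty.Spec_iff.2 (RingHom.flat_algebraMap_iff.2 inferInstance)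
    infer_instance
  haveI : Flat (pullback.snd (ι' ≫ a) κ) := MorphismProperty.pullback_snd _ _ hflat'
  haveI : Surjective (pullback.snd (ι' ≫ a) κ) := ⟨fun x => by
    let q : PrimeSpectrum (Localization.Away γ) := x
    obtain ⟨t, ht, htq⟩ := hγ (show PrimeSpectrum.comap (algebraMap A (Localization.Away γ)) q ∈
        (PrimeSpectrum.basicOpen γ : Set (PrimeSpectrum A)) from fun hm =>
      q.isPrime.ne_top (Ideal.eq_top_of_isUnit_mem _ hm (IsLocalization.Away.algebraMap_isUnit γ)))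
    obtain ⟨w, hw⟩ : t ∈ Set.range (PrimeSpectrum.comap (algebraMap A' L')) := by
      rw [PrimeSpectrum.localization_away_comap_range L' g']
      exact ht
    obtain ⟨z, -, hz⟩ := Scheme.Pullback.exists_preimage_pullback (f := ι' ≫ a) (g := κ) w x (by
      show PrimeSpectrum.comap (algebraMap A A') (PrimeSpectrum.comap (algebraMap A' L') w) = _
      rw [hw, htq]
      rfl)
    exact ⟨z, hz⟩⟩
  refine repMono_descend hP (pullback.snd (ι' ≫ a) κ) ?_
  rw [← pullback.condition]
  exact hW.pullback _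

attribute [local instance] Algebra.TensorProduct.rightAlgebra

/-- Representability near a point, for a proper morphism. -/
theorem exists_repMono_near_proper {A : Type u} [CommRing A] (f : X ⟶ Spec (CommRingCat.of A)) [IsProper f]
    [LocallyOfFinitePresentation f] (hF : CohB1.IsFP F) (n : ℕ) (hflat : PX f F (n + 1) (𝟙 _))
    (s : Ideal A) [s.IsPrime] :
    ∃ g : A, g ∉ s ∧ RepMono (PX f F n) (Spec.map (CommRingCat.ofHom (algebraMap A (Localization.Away g)))) := by
  classical
  obtain ⟨B, _, _, _, N, _, _, _, h₀, h₀e, h₀s, h₀f, ⟨i₀⟩⟩ := exists_affine_cover F f hF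
  haveI := h₀e
  haveI := h₀s
  obtain ⟨A', _, _, p', hp', hA', hcov⟩ := exists_cover (A := A) (B := B) N s
  haveI := hp'
  haveI := hA'.1
  haveI : p'.LiesOver s := hA'.2.1
  let BA := A' ⊗[A] B
  let NA := BA ⊗[B] N
  haveI : Algebra.IsPushout A B A' BA := Algebra.IsPushout.symm inferInstance
  let fA : N →ₗ[B] NA := TensorProduct.mk B BA N 1
  have hfA : IsBaseChange BA fA := TensorProduct.isBaseChange B N BA
  obtain ⟨k, C, hC1, hC2, hC3, hC4, L, hL1, hL2, hL3, hL4, g, hCg, hcover⟩ := hcov BA NA fA hfA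
  haveI := fun j => (hCg j).1
  haveI : ∀ j, Algebra.FinitePresentation A' (C j) := fun j => Algebra.FinitePresentation.trans A' BA (C j)
  haveI : ∀ j, Module.FinitePresentation (C j) (L j) := fun j => Module.FinitePresentation.of_equiv (hCg j).2.1.equiv
  letI : ∀ j, Module A' (L j) := fun j => Module.compHom _ (algebraMap A' (C j))
  haveI : ∀ j, IsScalarTower A' (C j) (L j) := fun j => .of_algebraMap_smul fun _ _ => rfl
  let a := Spec.map (CommRingCat.ofHom (algebraMap A A'))
  let X' := pullback f a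
  let fX : X' ⟶ Spec (CommRingCat.of A') := pullback.snd f a
  let πX : X' ⟶ X := pullback.fst f a
  let v := Spec.map (CommRingCat.ofHom (algebraMap B BA))
  have sqB : IsPullback v (fB A' BA) (h₀ ≫ f) a := by
    rw [h₀f]
    exact isPullback_SpecMap_of_isPushout _ _ _ _ (CommRingCat.isPushout_of_isPushout A B A' BA)
  let c₀ : Spec (CommRingCat.of BA) ⟶ X' := pullback.lift (v ≫ h₀) (fB A' BA) (by rw [Category.assoc]; exact sqB.w)
  have hc1 : c₀ ≫ πX = v ≫ h₀ := pullback.lift_fst _ _ _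
  have hc2 : c₀ ≫ fX = fB A' BA := pullback.lift_snd _ _ _
  have sqc : IsPullback v c₀ h₀ πX := by
    refine IsPullback.of_bot ?_ hc1.symm (IsPullback.of_hasPullback f a)
    rw [show c₀ ≫ pullback.snd f a = fB A' BA from hc2]
    exact sqB
  haveI : Etale c₀ := MorphismProperty.of_isPullback (P := @Etale) sqc inferInstance
  haveI : Surjective c₀ := MorphismProperty.of_isPullback (P := @Surjective) sqc inferInstance
  let F' := (Scheme.Modules.pullback πX).obj F
  haveI : Coh.IsQCoh F' := PullbackMod.isQCoh_pullback πX F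
  let eA : (Scheme.Modules.pullback c₀).obj F' ≅ FN BA NA :=
    (Scheme.Modules.pullbackComp c₀ πX).app F ≪≫ (Scheme.Modules.pullbackCongr hc1).app F ≪≫
      ((Scheme.Modules.pullbackComp v h₀).app F).symm ≪≫ (Scheme.Modules.pullback v).mapIso i₀ ≪≫
      pullbackFN N BA NA fA hfA
  let hh : ∀ j, Spec (CommRingCat.of (C j)) ⟶ X' := fun j =>
    Spec.map (CommRingCat.ofHom (algebraMap BA (C j))) ≫ c₀
  have hhf : ∀ j, hh j ≫ fX = fB A' (C j) := fun j => by
    rw [Category.assoc, hc2]; exact fB_comp (C j)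
  let eC : ∀ j, (Scheme.Modules.pullback (hh j)).obj F' ≅ FN (C j) (L j) := fun j =>
    ((Scheme.Modules.pullbackComp (Spec.map (CommRingCat.ofHom (algebraMap BA (C j)))) c₀).app F').symm ≪≫
      (Scheme.Modules.pullback _).mapIso eA ≪≫ pullbackFN NA (C j) (L j) (g j) (hCg j).2.1
  haveI : ∀ j, Etale (hh j) := fun j => inferInstance
  have hbc : ∀ (m : ℕ) ⦃T : Scheme.{u}⦄ (u : T ⟶ Spec (CommRingCat.of A')), PX fX F' m u ↔ PX f F m (u ≫ a) :=
    fun m => PX_bc f F (IsPullback.of_hasPullback f a) m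
  have hchart : ∀ (m : ℕ) (j : Fin k) ⦃T : Scheme.{u}⦄ (u : T ⟶ Spec (CommRingCat.of A')),
      PX (hh j ≫ fX) ((Scheme.Modules.pullback (hh j)).obj F') m u ↔ P A' (C j) (L j) m u :=
    fun m j => PX_eq_P F' (hh j) (hhf j) (L j) (eC j) m
  have hrep : ∀ j, ∃ g₀ : A', g₀ ∉ p' ∧ ∀ x : A', g₀ ∣ x →
      RepMono (P A' (C j) (L j) n) (Spec.map (CommRingCat.ofHom (algebraMap A' (Localization.Away x)))) := fun j => by
    refine repMono_of_rep (L j) p' n (rep_of_devissage (L j) p' (hCg j).2.2 n ((P_id_iff (C j) (L j) (n + 1)).1 ?_))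
    refine (hchart _ j _).1 (PX_etale fX F' (hh j) (n + 1) _ ((hbc _ _).2 ?_))
    have := (isGood_PX f F (n + 1)).comp a _ hflat
    simpa using this
  choose g₀ hg₀ hrep using hrep
  let U : Set X' := ⋃ j, Set.range (hh j)
  have hUo : IsOpen U := isOpen_iUnion fun j => (hh j).isOpenMap.isOpen_range
  let y : PrimeSpectrum A' := ⟨p', inferInstance⟩
  obtain ⟨_, ⟨h, rfl⟩, hy, hh'⟩ := (PrimeSpectrum.isTopologicalBasis_basic_opens (R := A')).exists_subset_of_mem_open
    (show y ∈ (fX '' Uᶜ)ᶜ from by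
      rintro ⟨x, hxU, hxy⟩
      obtain ⟨z, rfl⟩ := c₀.surjective x
      have hz : PrimeSpectrum.comap (algebraMap A' BA) z = y := by
        rw [← Scheme.Hom.comp_apply, hc2] at hxy
        exact hxy
      obtain ⟨j, Q', hQ', he⟩ := hcover (PrimeSpectrum.asIdeal z) ⟨(congrArg PrimeSpectrum.asIdeal hz).symm⟩
      refine hxU (Set.mem_iUnion.2 ⟨j, (⟨Q', hQ'⟩ : PrimeSpectrum (C j)), ?_⟩)
      show c₀ (PrimeSpectrum.comap (algebraMap BA (C j)) ⟨Q', hQ'⟩) = c₀ z
      exact congrArg _ (PrimeSpectrum.ext he))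
    (fX.isClosedMap _ hUo.isClosed_compl).isOpen_compl
  let g' : A' := h * ∏ j, g₀ j
  have hg' : g' ∉ p' := fun hm => by
    rcases hp'.mem_or_mem hm with h1 | h1
    · exact hy h1
    · obtain ⟨j, -, hj⟩ := hp'.prod_mem_iff.1 h1
      exact hg₀ j hj
  let L' := Localization.Away g'
  let ι' := Spec.map (CommRingCat.ofHom (algebraMap A' L'))
  have hall : RepMono (fun ⦃_⦄ u => ∀ j, P A' (C j) (L j) n u) ι' :=
    repMono_forall fun j => hrep j g' (Dvd.dvd.mul_left (Finset.dvd_prod_of_mem _ (Finset.mem_univ j)) h)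
  have hW : RepMono (PX f F n) (ι' ≫ a) := by
    refine RepMono.comp (Q := fun ⦃_⦄ u => PX fX F' n u) a (hbc n) (hall.congr fun T v => ?_)
    refine ⟨fun hj => PX_of_cover fX F' _ hh n _ (fun x hx => ?_) fun j => (hchart n j _).2 (hj j),
      fun hP j => (hchart n j _).1 (PX_etale fX F' (hh j) n _ hP)⟩
    obtain ⟨t, ht⟩ := hx
    by_contra hxU
    push Not at hxU
    refine hh' ?_ ⟨x, fun h1 => ?_, rfl⟩
    · rw [← ht]
      let q : PrimeSpectrum L' := v t
      show PrimeSpectrum.comap (algebraMap A' L') q ∈ (PrimeSpectrum.basicOpen h : Set _)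
      intro hm
      exact q.isPrime.ne_top (Ideal.eq_top_of_isUnit_mem _ (Ideal.mul_mem_right _ q.asIdeal hm : _ * algebraMap A' L' _ ∈ _)
        (by rw [← map_mul]; exact IsLocalization.Away.algebraMap_isUnit g'))
    · obtain ⟨j, hj⟩ := Set.mem_iUnion.1 h1
      exact hxU j hj
  exact repMono_near_of_etale (isGood_PX f F n) s p' g' hg' hW

/-- One step of the descending induction. -/
theorem repMono_step_proper {A : Type u} [CommRing A] (f : X ⟶ Spec (CommRingCat.of A)) [IsProper f]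
    [LocallyOfFinitePresentation f] (hF : CohB1.IsFP F) (n : ℕ)
    (h : RepMono (PX f F (n + 1)) (𝟙 (Spec (CommRingCat.of A)))) :
    RepMono (PX f F n) (𝟙 (Spec (CommRingCat.of A))) := by
  obtain ⟨Z, e, h1, h2, h3, h4⟩ := h
  haveI := h1
  haveI := h2
  haveI := h3
  refine repMono_of_comp e h4 (fun T v hv => PX_mono f F (Nat.le_succ n) _ hv) ?_
  let Q := fun ⦃T : Scheme.{u}⦄ (u : T ⟶ Z) => PX f F n (u ≫ e)
  suffices hmain : RepMono Q (𝟙 Z) by
    have := RepMono.comp (P := PX f F n) e (fun T u => Iff.rfl) hmain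
    simpa using this
  refine repMono_glue ((isGood_PX f F n).pullback e) {V | RepMono Q V.1.ι}
    (TopologicalSpace.Opens.isBasis_iff_nbhd.2 fun {O x} hxO => ?_) fun V hV => hV
  obtain ⟨_, ⟨U, hU, rfl⟩, hxU, hUO⟩ := Z.isBasis_affineOpens.exists_subset_of_mem_open hxO O.isOpen
  let R := Γ(Z, U)
  let a : Spec R ⟶ Spec (CommRingCat.of A) := hU.fromSpec ≫ e
  let fR := pullback.snd f a
  haveI : IsProper fR := MorphismProperty.pullback_snd _ _ ‹IsProper f›
  haveI : LocallyOfFinitePresentation fR := MorphismProperty.pullback_snd _ _ ‹LocallyOfFinitePresentation f›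
  let FR := (Scheme.Modules.pullback (pullback.fst f a)).obj F
  haveI : Coh.IsQCoh FR := PullbackMod.isQCoh_pullback _ F
  have hbc : ∀ (m : ℕ) ⦃T : Scheme.{u}⦄ (u : T ⟶ Spec R), PX fR FR m u ↔ PX f F m (u ≫ a) :=
    fun m => PX_bc f F (IsPullback.of_hasPullback f a) m
  obtain ⟨q, hq⟩ : x ∈ Set.range hU.fromSpec := hU.range_fromSpec.ge hxU
  obtain ⟨g, hg, hrep⟩ := exists_repMono_near_proper (A := R) FR fR (PullbackMod.isFP_pullback _ F hF) n
    ((hbc _ _).2 (by
      have := (h4 _ a).1 ⟨hU.fromSpec, rfl⟩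
      simpa using this)) (PrimeSpectrum.asIdeal q)
  let κ := Spec.map (CommRingCat.ofHom (algebraMap R (Localization.Away g)))
  haveI : IsOpenImmersion κ := IsOpenImmersion.of_isLocalization g
  let j : Spec (CommRingCat.of (Localization.Away g)) ⟶ Z := κ ≫ hU.fromSpec
  refine ⟨_, ⟨⟨j.opensRange, isAffineOpen_opensRange j⟩, ?_, rfl⟩, ?_, ?_⟩
  · have h0 : RepMono Q j := RepMono.comp hU.fromSpec (fun T u => by
      show PX fR FR n u ↔ PX f F n ((u ≫ hU.fromSpec) ≫ e)
      rw [hbc, Category.assoc]) hrep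
    show RepMono Q j.opensRange.ι
    have := h0.pullback j.isoOpensRange.inv
    rwa [Scheme.Hom.isoOpensRange_inv_comp] at this
  · have : q ∈ Set.range κ := by
      show (q : PrimeSpectrum R) ∈ Set.range (PrimeSpectrum.comap (algebraMap R (Localization.Away g)))
      rw [PrimeSpectrum.localization_away_comap_range (Localization.Away g) g]
      exact hg
    obtain ⟨w, hw⟩ := this
    exact ⟨w, by rw [Scheme.Hom.comp_apply, hw]; exact hq⟩
  · rintro _ ⟨w, rfl⟩
    exact hUO (hU.range_fromSpec.le ⟨κ w, rfl⟩)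

/-- For a proper morphism to an affine scheme flatness in dimensions at least `n` is representable. -/
theorem repMono_of_proper {A : Type u} [CommRing A] (f : X ⟶ Spec (CommRingCat.of A)) [IsProper f]
    [LocallyOfFinitePresentation f] (hF : CohB1.IsFP F) (n : ℕ) :
    RepMono (PX f F n) (𝟙 (Spec (CommRingCat.of A))) := by
  obtain ⟨B, _, _, _, N, _, _, _, h₀, h₀e, h₀s, h₀f, ⟨i₀⟩⟩ := exists_affine_cover F f hF
  haveI := h₀e
  haveI := h₀s
  obtain ⟨n₀, hn₀⟩ := exists_P_top A B N
  have htop : ∀ ⦃T : Scheme.{u}⦄ (u : T ⟶ Spec (CommRingCat.of A)), PX f F n₀ u := fun T u =>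
    PX_of_cover f F (fun _ : Unit => Spec (CommRingCat.of B)) (fun _ => h₀) n₀ u
      (fun x _ => ⟨(), h₀.surjective x⟩) fun _ => (PX_eq_P F h₀ h₀f N i₀ n₀ u).2 (hn₀ u)
  suffices ∀ d m, n₀ ≤ m + d → RepMono (PX f F m) (𝟙 (Spec (CommRingCat.of A))) from this n₀ n (Nat.le_add_left _ _)
  intro d
  induction d with
  | zero => exact fun m hm => repMono_of_forall fun T v => PX_mono f F (by omega) _ (htop _)
  | succ d ih => exact fun m hm => repMono_step_proper F f hF m (ih (m + 1) (by omega))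

end Groth.Agent.PureRep
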