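import Groth.Agent.GenFreeLocus.DimLT
import Groth.Agent.GenRankLib.Fibre
import Groth.Agent.TildePullback.Basic
import Groth.Agent.DimFormulaLib.Irreducible
import Groth.Agent.PullbackMod.Flat

/-!
# Flatness in dimensions at least `n` over affine test schemes
-/

set_option autoImplicit false
set_option linter.style.haveILetI false
set_option backward.isDefEq.respectTransparency false
set_option backward.isDefEq.respectTransparency.types false
set_option backward.defeqAttrib.useBackward true
set_option maxHeartbeats 800000

universe u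

open CategoryTheory CategoryTheory.Limits AlgebraicGeometry TopologicalSpace Opposite
open scoped TensorProduct

noncomputable section

namespace Groth.Agent.PureRep

section Tilde

/-- Flatness of an associated sheaf at a point, for bundled data. -/
theorem isFlatOverAt_tilde_iff' {R S : CommRingCat.{u}} (φ : R ⟶ S) (M : ModuleCat.{u} S) (z : PrimeSpectrum S)
    [Module R M] [Algebra R S] (hφ : algebraMap R S = φ.hom) [IsScalarTower R S M] :
    FlatMod.IsFlatOverAt (Spec.map φ) (tilde M) z ↔ Module.Flat R (LocalizedModule z.asIdeal.primeCompl M) := by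
  let f := Spec.map φ
  let p : PrimeSpectrum R := f z
  let O := (Spec R).presheaf.stalk (f z)
  let O' := (Spec S).presheaf.stalk z
  let N := (tilde M).presheaf.stalk z
  letI : Algebra R O := StructureSheaf.stalkAlgebra R p
  haveI : IsLocalization.AtPrime O p.asIdeal := StructureSheaf.IsLocalization.to_stalk R p
  letI : Algebra S O' := StructureSheaf.stalkAlgebra S z
  letI : Module S N := inferInstanceAs (Module S ((tilde M).presheaf.stalk (z : PrimeSpectrum.Top S)))
  haveI : IsScalarTower S O' N :=
    inferInstanceAs (IsScalarTower S ((structurePresheafInCommRingCat S).stalk z)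
      ↑(TopCat.Presheaf.stalk (moduleStructurePresheaf S M).presheaf z))
  letI : Module R N := Module.compHom N φ.hom
  haveI : IsScalarTower R S N := .of_algebraMap_smul fun a x => by
    rw [hφ]
    rfl
  letI : Module O N := FlatMod.moduleStalkOver f (tilde M) z
  haveI : IsScalarTower R O N := .of_algebraMap_smul fun a x => by
    show f.stalkMap z ((Spec R).presheaf.germ ⊤ (f z) trivial ((Scheme.ΓSpecIso R).inv a)) • x = φ a • x
    rw [Scheme.Hom.germ_stalkMap_apply, ← algebraMap_smul O' (φ a) x]
    congr 1
    show (Spec S).presheaf.germ ⊤ z trivial (f.appTop ((Scheme.ΓSpecIso R).inv a)) =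
      (Spec S).presheaf.germ ⊤ z trivial ((Scheme.ΓSpecIso S).inv (φ a))
    congr 1
    exact congr($((Scheme.ΓSpecIso_inv_naturality φ).symm) a)
  haveI : IsLocalizedModule z.asIdeal.primeCompl (tilde.toStalk M z).hom := inferInstance
  let e : LocalizedModule z.asIdeal.primeCompl M ≃ₗ[R] N :=
    (IsLocalizedModule.iso z.asIdeal.primeCompl (tilde.toStalk M z).hom).restrictScalars R
  show Module.Flat O N ↔ Module.Flat R (LocalizedModule z.asIdeal.primeCompl M)
  rw [Module.flat_iff_of_isLocalization O p.asIdeal.primeCompl N]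
  exact ⟨fun h => Module.Flat.of_linearEquiv e, fun h => Module.Flat.of_linearEquiv e.symm⟩

variable (A B : Type u) [CommRing A] [CommRing B] [Algebra A B]
  (M : Type u) [AddCommGroup M] [Module B M] [Module A M] [IsScalarTower A B M]

/-- Flatness of an associated sheaf at a point. -/
theorem isFlatOverAt_tilde_iff (z : PrimeSpectrum B) :
    FlatMod.IsFlatOverAt (Spec.map (CommRingCat.ofHom (algebraMap A B)))
      (tilde (R := CommRingCat.of B) (ModuleCat.of B M)) z ↔ FlatCA.FlatAt A z.asIdeal M := by
  letI : Module (CommRingCat.of A) (ModuleCat.of B M) := inferInstanceAs (Module A M)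
  haveI : IsScalarTower (CommRingCat.of A) (CommRingCat.of B) (ModuleCat.of B M) :=
    inferInstanceAs (IsScalarTower A B M)
  exact isFlatOverAt_tilde_iff' (CommRingCat.ofHom (algebraMap A B)) (ModuleCat.of B M) z rfl

end Tilde

variable {A : Type u} [CommRing A] (B : Type u) [CommRing B] [Algebra A B]
  (N : Type u) [AddCommGroup N] [Module B N]

/-- The structure map. -/
def fB (A : Type u) [CommRing A] (B : Type u) [CommRing B] [Algebra A B] :
    Spec (CommRingCat.of B) ⟶ Spec (CommRingCat.of A) :=
  Spec.map (CommRingCat.ofHom (algebraMap A B))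

/-- The associated sheaf. -/
def FN : (Spec (CommRingCat.of B)).Modules := tilde (R := CommRingCat.of B) (ModuleCat.of B N)

instance : Coh.IsQCoh (FN B N) := inferInstanceAs (Coh.IsQCoh (tilde (R := CommRingCat.of B) (ModuleCat.of B N)))

instance [Algebra.FiniteType A B] : LocallyOfFiniteType (fB A B) :=
  (HasRingHomProperty.Spec_iff (P := @LocallyOfFiniteType)).2 (RingHom.finiteType_algebraMap.2 inferInstance)

/-- The extension of scalars along `algebraMap` is the tensor product. -/
def extendIso (B B' : Type u) [CommRing B] [CommRing B'] [Algebra B B'] (N : Type u) [AddCommGroup N] [Module B N] :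
    (ModuleCat.extendScalars.{u, u, u} (algebraMap B B')).obj (ModuleCat.of B N) ≅ ModuleCat.of B' (B' ⊗[B] N) := by
  let ι : ((ModuleCat.restrictScalars (algebraMap B B')).obj (ModuleCat.of B' B')) ≃ₗ[B] B' :=
    { AddEquiv.refl B' with map_smul' := fun r (x : B') => (Algebra.smul_def r x).symm }
  let g := TensorProduct.congr ι (LinearEquiv.refl B (ModuleCat.of B N))
  exact LinearEquiv.toModuleIso (X₁ := (ModuleCat.extendScalars.{u, u, u} (algebraMap B B')).obj (ModuleCat.of B N))
    { toFun := g
      invFun := g.symm
      left_inv := g.left_inv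
      right_inv := g.right_inv
      map_add' := g.map_add
      map_smul' := fun c x => by
        show g (c • x) = c • g x
        induction x using TensorProduct.induction_on with
        | zero => rw [smul_zero, map_zero]; exact (smul_zero c).symm
        | tmul b m => rfl
        | add x y hx hy => rw [smul_add, map_add, map_add, hx, hy]; exact (smul_add c _ _).symm }

/-- The condition on schemes over the base. -/
def P (A : Type u) [CommRing A] (B : Type u) [CommRing B] [Algebra A B] (N : Type u) [AddCommGroup N] [Module B N]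
    (n : ℕ) ⦃T : Scheme.{u}⦄ (u : T ⟶ Spec (CommRingCat.of A)) : Prop :=
  GenFreeLocus.FlatDimGE (fB A B) (FN B N) n (Over.mk u)

/-- The condition on an affine test scheme. -/
theorem P_spec_iff [Algebra.FiniteType A B] (n : ℕ) (A' B' N' : Type u) [CommRing A'] [CommRing B'] [Algebra A A']
    [Algebra B B'] [Algebra A' B'] [Algebra A B'] [IsScalarTower A B B'] [IsScalarTower A A' B'] [Algebra.IsPushout A B A' B']
    [AddCommGroup N'] [Module B' N'] [Module B N'] [IsScalarTower B B' N'] [Module A' N'] [IsScalarTower A' B' N']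
    (φ : N →ₗ[B] N') (hφ : IsBaseChange B' φ) :
    P A B N n (Spec.map (CommRingCat.ofHom (algebraMap A A'))) ↔ FlatCA.FlatInDimGE n A' B' N' := by
  let u := Spec.map (CommRingCat.ofHom (algebraMap A A'))
  let v := Spec.map (CommRingCat.ofHom (algebraMap B B'))
  let w := Spec.map (CommRingCat.ofHom (algebraMap A' B'))
  let T : Over (Spec (CommRingCat.of A)) := Over.mk u
  have sq : IsPullback v w (fB A B) u :=
    isPullback_SpecMap_of_isPushout _ _ _ _ (CommRingCat.isPushout_of_isPushout A B A' B')
  let e : Spec (CommRingCat.of B') ≅ pullback (fB A B) u := sq.isoPullback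
  have he1 : e.hom ≫ pullback.fst (fB A B) u = v := sq.isoPullback_hom_fst
  have he2 : e.hom ≫ pullback.snd (fB A B) u = w := sq.isoPullback_hom_snd
  letI : Algebra B B' := ‹Algebra B B'›
  let eN : (ModuleCat.extendScalars.{u, u, u} (algebraMap B B')).obj (ModuleCat.of B N) ≅ ModuleCat.of B' N' :=
    extendIso B B' N ≪≫ LinearEquiv.toModuleIso (X₁ := B' ⊗[B] N) (X₂ := N') hφ.equiv
  let eF : (Scheme.Modules.pullback e.hom).obj (FGA.ET (fB A B) (FN B N) T) ≅
      tilde (R := CommRingCat.of B') (ModuleCat.of B' N') :=
    (Scheme.Modules.pullbackComp e.hom (pullback.fst (fB A B) u)).app (FN B N) ≪≫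
      (Scheme.Modules.pullbackCongr he1).app (FN B N) ≪≫
      (TildePullback.tildePullbackIso (CommRingCat.ofHom (algebraMap B B'))).app (ModuleCat.of B N) ≪≫
      (tilde.functor (CommRingCat.of B')).mapIso eN
  haveI : Coh.IsQCoh (FGA.ET (fB A B) (FN B N) T) := PullbackMod.isQCoh_pullback (pullback.fst (fB A B) u) (FN B N)
  have hflat : ∀ z : ↥(Spec (CommRingCat.of B')),
      FlatMod.IsFlatOverAt (pullback.snd (fB A B) u) (FGA.ET (fB A B) (FN B N) T) (e.hom z) ↔
        FlatCA.FlatAt A' z.asIdeal N' := by
    intro z
    rw [← isFlatOverAt_tilde_iff A' B' N' z,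
      ← PullbackMod.isFlatOverAt_pullback_comp_iff e.hom (pullback.snd (fB A B) u) _ z (Flat.stalkMap _ z), he2]
    exact ⟨fun h => PullbackMod.isFlatOverAt_of_iso eF _ z h, fun h => PullbackMod.isFlatOverAt_of_iso eF.symm _ z h⟩
  haveI : Algebra.IsPushout A A' B B' := Algebra.IsPushout.symm inferInstance
  haveI : Algebra.FiniteType A' B' := Algebra.FiniteType.equiv inferInstance (Algebra.IsPushout.equiv A A' B B')
  have htr : ∀ z : ↥(Spec (CommRingCat.of B')),
      Dual3.resTrdeg (pullback.snd (fB A B) u) (e.hom z) = GenRankLib.tr A' z.asIdeal := by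
    intro z
    let ch : DimFormulaLib.Chart (pullback.snd (fB A B) u) (e.hom z) :=
      { A := A', B := B', i := 𝟙 _, j := e.hom, w := by rw [he2, Category.comp_id], q := z, hq := rfl }
    show DimFormulaLib.resTrdegAt (pullback.snd (fB A B) u) (e.hom z) = _
    rw [ch.resTrdegAt_self]
    rfl
  rw [GenRankLib.flatInDimGE_iff]
  constructor
  · intro h Q _ hQ
    exact (htr ⟨Q, inferInstance⟩).symm.trans_lt (h (e.hom ⟨Q, inferInstance⟩) fun hf => hQ ((hflat ⟨Q, inferInstance⟩).1 hf))
  · intro h x hx
    obtain ⟨z, rfl⟩ := e.hom.surjective x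
    exact (htr z).trans_lt (h z.asIdeal fun hf => hx ((hflat z).2 hf))

end Groth.Agent.PureRep
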