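import Groth.Agent.DevLib.Cover
import Groth.Agent.GenRankLib.Step

/-!
# Charts with complete dévissages by smooth algebras of constant relative dimension
-/

set_option autoImplicit false
set_option linter.style.haveILetI false
set_option backward.isDefEq.respectTransparency false
set_option backward.isDefEq.respectTransparency.types false
set_option maxHeartbeats 2000000

universe u

open TensorProduct

noncomputable section

namespace Groth.Agent.PureRep

open DevLib

attribute [local instance] Algebra.TensorProduct.rightAlgebra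

/-- A complete dévissage whose smooth algebras have constant relative dimensions. -/
def DimDev (A C : Type u) [CommRing A] [CommRing C] [Algebra A C] (N : Type u) [AddCommGroup N] [Module C N]
    (p : Ideal A) [p.IsPrime] : Prop :=
  ∃ D : FlatCA.CompleteDevissage A C N p, ∀ i, i < D.n → ∃ e : ℕ, FlatCA.SmoothRelDim e A (D.B i)

/-- An étale chart on which the module has a complete dévissage over every étale neighbourhood of the base. -/
def DimChart (A B : Type u) [CommRing A] [CommRing B] [Algebra A B] (N : Type u) [AddCommGroup N] [Module B N]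
    (p : Ideal A) [p.IsPrime] (q : Ideal B) [q.IsPrime] : Prop :=
  ∃ (R₁ S₁ : Type u) (_ : CommRing R₁) (_ : CommRing S₁) (_ : Algebra A R₁) (_ : Algebra B S₁) (_ : Algebra R₁ S₁)
    (_ : Algebra A S₁) (_ : IsScalarTower A R₁ S₁) (_ : IsScalarTower A B S₁)
    (p₁ : Ideal R₁) (w : Ideal S₁) (_ : p₁.IsPrime) (_ : w.IsPrime),
    FlatCA.IsEtaleNhd A R₁ p p₁ ∧ FlatCA.IsEtaleNhd B S₁ q w ∧ w.LiesOver p₁ ∧
    ∀ (A' : Type u) [CommRing A'] [Algebra R₁ A'] [Algebra.Etale R₁ A'] (p' : Ideal A') [p'.IsPrime] [p'.LiesOver p₁]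
      (_ : Function.Bijective (Ideal.ResidueField.mapₐ p₁ p' (Algebra.ofId R₁ A') (p'.over_def p₁)))
      (C : Type u) [CommRing C] [Algebra A' C] [Algebra S₁ C] [Algebra R₁ C] [IsScalarTower R₁ A' C]
      [IsScalarTower R₁ S₁ C] [Algebra.IsPushout R₁ A' S₁ C] [Algebra B C] [IsScalarTower B S₁ C]
      (N' : Type u) [AddCommGroup N'] [Module C N'] [Module B N'] [IsScalarTower B C N']
      (f : N →ₗ[B] N'), IsBaseChange C f → DimDev A' C N' p'

/-- The dévissage of the zero module. -/
theorem dimDev_of_subsingleton (A C : Type u) [CommRing A] [CommRing C] [Algebra A C]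
    (N : Type u) [AddCommGroup N] [Module C N] [Subsingleton N] (p : Ideal A) [p.IsPrime] :
    DimDev A C N p := by
  haveI : Subsingleton (C ⧸ (⊤ : Ideal C)) := Submodule.Quotient.subsingleton_iff.2 rfl
  letI : Algebra A (C ⧸ (⊤ : Ideal C)) := inferInstance
  haveI hp : (p.map (algebraMap A A)).IsPrime := by
    rw [Algebra.algebraMap_self, Ideal.map_id]
    infer_instance
  have hirr : FlatCA.GeomIrredFibres A A := by
    refine geomIrredFibres_iff_tensor.2 fun K _ _ => ?_
    exact (PrimeSpectrum.homeomorphOfRingEquiv (Algebra.TensorProduct.rid A K K).toRingEquiv).irreducibleSpace_iff.2 inferInstance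
  refine ⟨{
    n := 1
    pos := Nat.one_pos
    A := fun _ => C ⧸ (⊤ : Ideal C)
    B := fun _ => A
    M := fun _ => PUnit.{u + 1}
    r := fun _ => 0
    α := fun _ => 0
    surjSA := Ideal.Quotient.mk_surjective
    fpSA := Algebra.FinitePresentation.quotient ⟨{1}, by simp⟩
    surjBA' := fun i hi => absurd hi (by omega)
    fpBA' := fun i hi => absurd hi (by omega)
    finiteBA := fun _ _ => inferInstance
    smooth := fun _ _ => inferInstance
    geomIrred := fun _ _ => hirr
    finiteM := fun _ _ => inferInstance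
    isoN := LinearEquiv.ofSubsingleton N PUnit.{u + 1}
    isoCoker := fun i hi => absurd hi (by omega)
    fibreIso := fun _ _ => ⟨Function.injective_of_subsingleton _, fun z => ⟨0, Subsingleton.elim _ _⟩⟩
    cokerLast := fun z => ⟨0, Subsingleton.elim _ _⟩ }, fun i _ => ⟨0, ?_⟩⟩
  show AlgebraicGeometry.SmoothOfRelativeDimension 0
    (AlgebraicGeometry.Spec.map (CommRingCat.ofHom (algebraMap A A)))
  rw [show CommRingCat.ofHom (algebraMap A A) = CategoryTheory.CategoryStruct.id (CommRingCat.of A) from rfl,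
    AlgebraicGeometry.Spec.map_id]
  infer_instance

/-- Charts exist at every point of the fibre. -/
theorem exists_dimChart {A B : Type u} [CommRing A] [CommRing B] [Algebra A B] [Algebra.FiniteType A B]
    (N : Type u) [AddCommGroup N] [Module B N] [Module.Finite B N] (p : Ideal A) [p.IsPrime]
    (q : Ideal B) [q.IsPrime] [q.LiesOver p] : DimChart A B N p q := by
  classical
  letI : Module A N := Module.compHom N (algebraMap A B)
  haveI : IsScalarTower A B N := .of_algebraMap_smul fun _ _ => rfl
  haveI : p.LiesOver p := ⟨(Ideal.comap_id p).symm⟩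
  by_cases h : (⟨q, inferInstance⟩ : PrimeSpectrum B) ∈ Module.support B N
  · obtain ⟨hpr, hcom⟩ := FibAssLib.fiberIdeal_spec p q
    letI : Algebra B (p.Fiber B) :=
      (Algebra.TensorProduct.includeRight (R := A) (A := p.ResidueField) (B := B)).toRingHom.toAlgebra
    have hs : Module.support (p.Fiber B) (FlatCA.fiberMod p B N) = PrimeSpectrum.zeroLocus
        (((Module.annihilator B N).map (algebraMap B (p.Fiber B)) : Ideal (p.Fiber B)) : Set (p.Fiber B)) :=
      AssSupLib.support_baseChange
    have hx : (⟨_, hpr⟩ : PrimeSpectrum (p.Fiber B)) ∈ Module.support (p.Fiber B) (FlatCA.fiberMod p B N) := by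
      rw [hs, PrimeSpectrum.mem_zeroLocus, SetLike.coe_subset_coe]
      exact Ideal.map_mono (Module.mem_support_iff_of_finite.1 h)
    obtain ⟨J, -, -, hJsupp⟩ := S1276.result (A := A) (B := B) N p
    obtain ⟨q0, hq0, -, hq0p, Q0, -, hQ0c, hdim⟩ := DevissLib.exists_fibre_point p J _ hJsupp q ⟨_, hpr⟩ rfl hx
    haveI := hq0
    haveI := hq0p
    obtain ⟨r, hr⟩ := DimFormulaLib.exists_nat_trdeg_quotient p.ResidueField (p.Fiber (B ⧸ J)) Q0.asIdeal
    obtain ⟨a, -, hd, -⟩ := DimFormulaLib.localDim_eq_height_add p.ResidueField (p.Fiber (B ⧸ J)) Q0 r hr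
    obtain ⟨R₁, S₁, _, _, _, _, _, _, _, _, p₁, w, hp₁, hw, hR₁, hS₁, hwp, hDev⟩ :=
      existsDev (a + r) A p B N q ⟨_, hpr⟩ hx rfl (hdim.symm.trans hd)
    refine ⟨R₁, S₁, inferInstance, inferInstance, inferInstance, inferInstance, inferInstance, inferInstance, inferInstance,
      inferInstance, p₁, w, hp₁, hw, hR₁, hS₁, hwp, ?_⟩
    intro A' _ _ _ p' _ _ hres C _ _ _ _ _ _ _ _ _ N' _ _ _ _ f hf
    haveI := hp₁
    haveI := hw
    haveI := hwp
    -- a point of `C`
    let Yf := (Ideal.fiberIsoOfBijectiveResidueField (S := S₁) hres).symm ⟨w, inferInstance, inferInstance⟩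
    let eC : A' ⊗[R₁] S₁ ≃ₐ[A'] C := Algebra.IsPushout.equiv R₁ A' S₁ C
    let w' : Ideal C := Yf.1.comap eC.symm.toRingEquiv.toRingHom
    haveI : Yf.1.IsPrime := Yf.2.1
    haveI : Yf.1.LiesOver p' := Yf.2.2
    haveI : w'.IsPrime := inferInstance
    haveI : w'.LiesOver p' := ⟨by
      refine (Yf.1.over_def p').trans ?_
      show Yf.1.comap (algebraMap A' _) = (Yf.1.comap eC.symm.toRingEquiv.toRingHom).comap (algebraMap A' C)
      rw [Ideal.comap_comap]
      congr 1
      exact RingHom.ext fun b => (eC.symm.commutes b).symm⟩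
    haveI : w'.LiesOver w := ⟨by
      refine (Ideal.comap_fiberIsoOfBijectiveResidueField_symm hres
        (⟨w, inferInstance, inferInstance⟩ : p₁.primesOver S₁)).symm.trans ?_
      show Yf.1.comap _ = (Yf.1.comap eC.symm.toRingEquiv.toRingHom).comap (algebraMap S₁ C)
      rw [Ideal.comap_comap]
      congr 1
      refine RingHom.ext fun s => ?_
      show (1 : A') ⊗ₜ[R₁] s = eC.symm (algebraMap S₁ C s)
      rw [eq_comm, AlgEquiv.symm_apply_eq]
      simp [eC, Algebra.IsPushout.equiv_tmul]⟩
    letI : Module S₁ N' := Module.compHom _ (algebraMap S₁ C)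
    haveI : IsScalarTower S₁ C N' := .of_algebraMap_smul fun _ _ => rfl
    haveI : IsScalarTower B S₁ N' := .of_algebraMap_smul fun b (m : N') => by
      show algebraMap S₁ C (algebraMap B S₁ b) • m = b • m
      rw [← IsScalarTower.algebraMap_apply B S₁ C, algebraMap_smul]
    let g := (TensorProduct.isBaseChange B N S₁).lift f
    have hg : IsBaseChange C g := IsBaseChange.of_comp (TensorProduct.isBaseChange B N S₁) (by
      rwa [show (g.restrictScalars B) ∘ₗ TensorProduct.mk B S₁ N 1 = f from
        LinearMap.ext fun m => (TensorProduct.isBaseChange B N S₁).lift_eq f m])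
    have hDev' : Dev A' p' C N' w' :=
      Dev.baseChange hres (hDev (S₁ ⊗[B] N) _ (TensorProduct.isBaseChange B N S₁)) C N' g hg w'
    obtain ⟨D, ⟨𝒜⟩⟩ := hDev'.hasComplete
    exact ⟨D, fun i hi => ⟨𝒜.d i, 𝒜.relDim i hi⟩⟩
  · rw [Module.mem_support_iff_of_finite, SetLike.not_le_iff_exists] at h
    obtain ⟨g, hg, hgq⟩ := h
    let S₁ := Localization.Away g
    have hd : Disjoint (Submonoid.powers g : Set B) q :=
      (Ideal.disjoint_powers_iff_notMem g (inferInstance : q.IsPrime).isRadical).2 hgq
    let w : Ideal S₁ := q.map (algebraMap B S₁)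
    haveI : w.IsPrime := IsLocalization.isPrime_of_isPrime_disjoint (Submonoid.powers g) _ q inferInstance hd
    haveI : w.LiesOver q := IsLocalization.liesOver_map_of_isPrime_disjoint (Submonoid.powers g) _ hd
    haveI : w.LiesOver p := Ideal.LiesOver.trans w q p
    refine ⟨A, S₁, inferInstance, inferInstance, inferInstance, inferInstance, inferInstance, inferInstance, inferInstance,
      inferInstance, p, w, inferInstance, inferInstance, ⟨inferInstance, inferInstance, ?_⟩,
      isEtaleNhd_away g q hgq w, inferInstance, ?_⟩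
    · exact DevissLib.residue_bijective_of_frac p p (fun b => ⟨1, b, p.one_notMem, by simp⟩)
    intro A' _ _ _ p' _ _ _ C _ _ _ _ _ _ _ _ _ N' _ _ _ _ f hf
    haveI : Subsingleton N' := by
      refine subsingleton_of_forall_eq 0 fun m => ?_
      induction m using hf.inductionOn with
      | zero => rfl
      | tmul m =>
        have hu : IsUnit (algebraMap B C g) := by
          rw [IsScalarTower.algebraMap_apply B S₁ C]
          exact (IsLocalization.Away.algebraMap_isUnit g).map _
        refine hu.smul_eq_zero.1 ?_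
        rw [algebraMap_smul, ← map_smul, Module.mem_annihilator.1 hg m, map_zero]
      | smul s m hm => rw [hm, smul_zero]
      | add u v hu hv => rw [hu, hv, add_zero]
    exact dimDev_of_subsingleton A' C N' p'

/-- An étale covering of the fibre by charts with dévissages. -/
theorem exists_cover {A B : Type u} [CommRing A] [CommRing B] [Algebra A B] [Algebra.FiniteType A B]
    (N : Type u) [AddCommGroup N] [Module B N] [Module.Finite B N] (p : Ideal A) [p.IsPrime] :
    ∃ (A' : Type u) (_ : CommRing A') (_ : Algebra A A') (p' : Ideal A') (_ : p'.IsPrime), FlatCA.IsEtaleNhd A A' p p' ∧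
      ∀ (BA NA : Type u) [CommRing BA] [Algebra B BA] [Algebra A' BA] [Algebra A BA] [IsScalarTower A B BA] [IsScalarTower A A' BA]
        [Algebra.IsPushout A B A' BA]
        [AddCommGroup NA] [Module BA NA] [Module B NA] [IsScalarTower B BA NA]
        (fA : N →ₗ[B] NA), IsBaseChange BA fA →
        ∃ (k : ℕ) (C : Fin k → Type u) (_ : ∀ i, CommRing (C i)) (_ : ∀ i, Algebra BA (C i)) (_ : ∀ i, Algebra A' (C i))
          (_ : ∀ i, IsScalarTower A' BA (C i))
          (Nc : Fin k → Type u) (_ : ∀ i, AddCommGroup (Nc i)) (_ : ∀ i, Module (C i) (Nc i)) (_ : ∀ i, Module BA (Nc i))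
          (_ : ∀ i, IsScalarTower BA (C i) (Nc i)) (g : ∀ i, NA →ₗ[BA] Nc i),
          (∀ i, Algebra.Etale BA (C i) ∧ IsBaseChange (C i) (g i) ∧ DimDev A' (C i) (Nc i) p') ∧
          ∀ (Q : Ideal BA) [Q.IsPrime], Q.LiesOver p' → ∃ (i : Fin k) (Q' : Ideal (C i)), Q'.IsPrime ∧ Q'.comap (algebraMap BA (C i)) = Q := by
  classical
  let F : Set (PrimeSpectrum B) := PrimeSpectrum.comap (algebraMap A B) ⁻¹' {⟨p, inferInstance⟩}
  have hF : IsCompact F := by
    rw [show F = Set.range (fun x => ((PrimeSpectrum.preimageEquivFiber A B ⟨p, inferInstance⟩).symm x).1) by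
      ext Q
      refine ⟨fun hQ => ⟨PrimeSpectrum.preimageEquivFiber A B ⟨p, inferInstance⟩ ⟨Q, hQ⟩, by simp⟩, ?_⟩
      rintro ⟨x, rfl⟩
      exact ((PrimeSpectrum.preimageEquivFiber A B ⟨p, inferInstance⟩).symm x).2]
    exact isCompact_range (continuous_subtype_val.comp
      (PrimeSpectrum.preimageHomeomorphFiber A B ⟨p, inferInstance⟩).symm.continuous)
  have hF' : ∀ Q : F, Q.1.asIdeal.LiesOver p := fun Q => ⟨(congrArg PrimeSpectrum.asIdeal Q.2).symm⟩
  have hchart : ∀ Q : F, DimChart A B N p Q.1.asIdeal := fun Q => by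
    haveI := hF' Q
    exact exists_dimChart N p Q.1.asIdeal
  choose R₁ S₁ cR cS aAR aBS aRS aAS tARS tABS p₁ w hp₁ hw hnhd hnhdS hwp hdev using hchart
  have hS₁ := fun Q => (hnhdS Q).1
  have hwq : ∀ Q, (w Q).LiesOver Q.1.asIdeal := fun Q => (hnhdS Q).2.1
  have hU : ∀ Q : F, ∃ U : Set (PrimeSpectrum B), IsOpen U ∧ Q.1 ∈ U ∧
      ∀ Q' ∈ U, Q'.asIdeal.LiesOver p →
        ∃ w' : Ideal (S₁ Q), w'.IsPrime ∧ w'.comap (algebraMap B (S₁ Q)) = Q'.asIdeal ∧ w'.LiesOver (p₁ Q) := by
    intro Q
    haveI := hp₁ Q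
    haveI := hw Q
    haveI := hS₁ Q
    haveI := hwp Q
    obtain ⟨hRe, hPp, -⟩ := hnhd Q
    haveI := hRe
    haveI := hPp
    obtain ⟨U, hUo, hUw, hU⟩ := DevLib.exists_open_chart (B := B) p (p₁ Q) (w Q)
    refine ⟨U, hUo, ?_, hU⟩
    rwa [show Q.1 = PrimeSpectrum.comap (algebraMap B (S₁ Q)) ⟨w Q, inferInstance⟩ from
      PrimeSpectrum.ext (hwq Q).over]
  choose U hUo hUQ hUw using hU
  obtain ⟨t, ht⟩ := hF.elim_finite_subcover U hUo fun Q hQ => Set.mem_iUnion.2 ⟨⟨Q, hQ⟩, hUQ _⟩
  let e : Fin t.card → F := fun i => (t.equivFin.symm i).1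
  haveI : ∀ i, (p₁ (e i)).IsPrime := fun i => hp₁ (e i)
  obtain ⟨A', _, _, p', hp', hA', hh⟩ := DevLib.exists_common_nhd p t.card (fun i => R₁ (e i)) (fun i => p₁ (e i))
    fun i => hnhd (e i)
  refine ⟨A', inferInstance, inferInstance, p', hp', hA', ?_⟩
  obtain ⟨hA'e, hp'p, hres'⟩ := hA'
  haveI := hp'
  haveI := hA'e
  haveI := hp'p
  intro BA NA _ _ _ _ _ _ _ _ _ _ _ fA hfA
  choose h hh using hh
  letI : ∀ i, Algebra (R₁ (e i)) A' := fun i => (h i).toRingHom.toAlgebra
  haveI : ∀ i, IsScalarTower A (R₁ (e i)) A' := fun i => .of_algebraMap_eq fun a => ((h i).commutes a).symm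
  haveI : ∀ i, (p'.LiesOver (p₁ (e i))) := fun i => ⟨(hh i).symm⟩
  haveI : ∀ i, Algebra.Etale A (R₁ (e i)) := fun i => (hnhd (e i)).1
  haveI : ∀ i, (p₁ (e i)).LiesOver p := fun i => (hnhd (e i)).2.1
  haveI : ∀ i, Algebra.Etale (R₁ (e i)) A' := fun i => Algebra.Etale.of_restrictScalars A (R₁ (e i)) A'
  have hresi : ∀ i, Function.Bijective
      (Ideal.ResidueField.mapₐ (p₁ (e i)) p' (Algebra.ofId (R₁ (e i)) A') (p'.over_def (p₁ (e i)))) := by
    intro i
    refine DevissLib.residue_bijective_of_frac _ _ fun z => ?_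
    obtain ⟨c, b, hc, hcb⟩ := DevissLib.fracMod_of_bijective p p' hres' z
    refine ⟨algebraMap A (R₁ (e i)) c, algebraMap A (R₁ (e i)) b, fun hm => hc (((p₁ (e i)).over_def p).ge hm), ?_⟩
    rwa [← IsScalarTower.algebraMap_apply, ← IsScalarTower.algebraMap_apply]
  let C : Fin t.card → Type u := fun i => A' ⊗[R₁ (e i)] S₁ (e i)
  letI : ∀ i, Algebra B (C i) := fun i =>
    ((algebraMap (S₁ (e i)) (C i)).comp (algebraMap B (S₁ (e i)))).toAlgebra
  haveI : ∀ i, IsScalarTower B (S₁ (e i)) (C i) := fun i => .of_algebraMap_eq fun _ => rfl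
  haveI : ∀ i, IsScalarTower A A' (C i) := fun i => inferInstance
  haveI : ∀ i, IsScalarTower A B (C i) := fun i => .of_algebraMap_eq fun a => by
    rw [IsScalarTower.algebraMap_apply B (S₁ (e i)) (C i), ← IsScalarTower.algebraMap_apply A B (S₁ (e i)),
      IsScalarTower.algebraMap_apply A (R₁ (e i)) (S₁ (e i)), ← IsScalarTower.algebraMap_apply (R₁ (e i)) (S₁ (e i)) (C i),
      IsScalarTower.algebraMap_apply A A' (C i), IsScalarTower.algebraMap_apply (R₁ (e i)) A' (C i),
      ← IsScalarTower.algebraMap_apply A (R₁ (e i)) A']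
  haveI : Algebra.IsPushout A A' B BA := Algebra.IsPushout.symm inferInstance
  let τ : ∀ i, BA →ₐ[A] C i := fun i => Algebra.pushoutDesc BA (IsScalarTower.toAlgHom A A' (C i))
    (IsScalarTower.toAlgHom A B (C i)) fun _ _ => Commute.all _ _
  letI : ∀ i, Algebra BA (C i) := fun i => (τ i).toRingHom.toAlgebra
  haveI : ∀ i, IsScalarTower A' BA (C i) := fun i => .of_algebraMap_eq fun a => by
    show _ = τ i (algebraMap A' BA a)
    rw [Algebra.pushoutDesc_left]
    rfl
  haveI : ∀ i, IsScalarTower B BA (C i) := fun i => .of_algebraMap_eq fun b => by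
    show _ = τ i (algebraMap B BA b)
    rw [Algebra.pushoutDesc_right]
    rfl
  haveI : Algebra.Etale B BA := Algebra.Etale.of_equiv (Algebra.IsPushout.equiv A B A' BA)
  haveI : ∀ i, Algebra.Etale B (C i) := fun i => by
    haveI := hS₁ (e i)
    haveI : Algebra.Etale (S₁ (e i)) (C i) :=
      Algebra.Etale.of_equiv (Algebra.TensorProduct.commRight (R₁ (e i)) (S₁ (e i)) A')
    exact Algebra.Etale.comp B (S₁ (e i)) (C i)
  haveI : ∀ i, Algebra.Etale BA (C i) := fun i => Algebra.Etale.of_restrictScalars B BA (C i)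
  refine ⟨t.card, C, fun i => inferInstance, fun i => inferInstance, fun i => inferInstance, fun i => inferInstance,
    fun i => C i ⊗[BA] NA, fun i => inferInstance, fun i => inferInstance, fun i => inferInstance, fun i => inferInstance,
    fun i => TensorProduct.mk BA (C i) NA 1, fun i => ⟨inferInstance, TensorProduct.isBaseChange BA NA (C i), ?_⟩, ?_⟩
  · haveI : IsScalarTower B (C i) (C i ⊗[BA] NA) := .of_algebraMap_smul fun b m => by
      induction m using TensorProduct.induction_on with
      | zero => simp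
      | add u v hu hv => simp only [smul_add, hu, hv]
      | tmul c m => rw [TensorProduct.smul_tmul', TensorProduct.smul_tmul', algebraMap_smul]
    exact hdev (e i) A' p' (hresi i) (C i) (C i ⊗[BA] NA) _ (hfA.comp (TensorProduct.isBaseChange BA NA (C i)))
  · intro Q _ hQ
    let q : PrimeSpectrum B := ⟨Q.comap (algebraMap B BA), inferInstance⟩
    have hqp : q.asIdeal.LiesOver p := ⟨by
      show p = (Q.comap (algebraMap B BA)).comap (algebraMap A B)
      rw [Ideal.comap_comap, ← IsScalarTower.algebraMap_eq, IsScalarTower.algebraMap_eq A A' BA, ← Ideal.comap_comap]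
      exact (p'.over_def p).trans (congrArg (Ideal.comap (algebraMap A A')) hQ.over)⟩
    obtain ⟨x, hx⟩ := Set.mem_iUnion.1 (ht (show q ∈ F from PrimeSpectrum.ext hqp.over.symm))
    obtain ⟨hxt, hxU⟩ := Set.mem_iUnion.1 hx
    let i := t.equivFin ⟨x, hxt⟩
    have hei : e i = x := by simp [e, i]
    obtain ⟨w', hw', hw'q, hw'p⟩ := hUw (e i) q (hei ▸ hxU) hqp
    haveI := hw'
    haveI := hw'p
    let Yf := (Ideal.fiberIsoOfBijectiveResidueField (S := S₁ (e i)) (hresi i)).symm ⟨w', inferInstance, inferInstance⟩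
    haveI : Yf.1.IsPrime := Yf.2.1
    haveI : Yf.1.LiesOver p' := Yf.2.2
    refine ⟨i, Yf.1, inferInstance, ?_⟩
    have h1 : Yf.1.comap (algebraMap (S₁ (e i)) (C i)) = w' :=
      Ideal.comap_fiberIsoOfBijectiveResidueField_symm (hresi i) _
    let eB : A' ⊗[A] B ≃ₐ[A'] BA := Algebra.IsPushout.equiv A A' B BA
    refine Ideal.comap_injective_of_surjective eB.toRingEquiv.toRingHom eB.surjective ?_
    haveI : ((Yf.1.comap (algebraMap BA (C i))).comap eB.toRingEquiv.toRingHom).LiesOver p' := ⟨by
      show p' = ((Yf.1.comap (algebraMap BA (C i))).comap eB.toRingEquiv.toRingHom).comap (algebraMap A' _)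
      rw [Ideal.comap_comap, show eB.toRingEquiv.toRingHom.comp (algebraMap A' (A' ⊗[A] B)) = algebraMap A' BA from
        RingHom.ext fun a => eB.commutes a, Ideal.comap_comap, ← IsScalarTower.algebraMap_eq]
      exact Yf.1.over_def p'⟩
    haveI : (Q.comap eB.toRingEquiv.toRingHom).LiesOver p' := ⟨by
      show p' = (Q.comap eB.toRingEquiv.toRingHom).comap (algebraMap A' _)
      rw [Ideal.comap_comap, show eB.toRingEquiv.toRingHom.comp (algebraMap A' (A' ⊗[A] B)) = algebraMap A' BA from
        RingHom.ext fun a => eB.commutes a]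
      exact hQ.over⟩
    refine Ideal.eq_of_comap_eq_comap_of_bijective_residueFieldMap hres' _ _ ?_
    rw [Ideal.comap_comap, Ideal.comap_comap, Ideal.comap_comap,
      show eB.toRingEquiv.toRingHom.comp (Algebra.TensorProduct.includeRight (R := A) (A := A') (B := B)).toRingHom =
        algebraMap B BA from RingHom.ext fun b => by simp [eB, Algebra.IsPushout.equiv_tmul],
      ← IsScalarTower.algebraMap_eq, IsScalarTower.algebraMap_eq B (S₁ (e i)) (C i), ← Ideal.comap_comap, h1]
    exact hw'q

open GenRankLib CategoryTheory CategoryTheory.Limits AlgebraicGeometry Opposite in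
/-- Representability near a prime along a dévissage. -/
theorem rep_of_devissage {A B : Type u} [CommRing A] [CommRing B] [Algebra A B] [Algebra.FinitePresentation A B]
    (N : Type u) [AddCommGroup N] [Module B N] [Module A N] [IsScalarTower A B N] [Module.FinitePresentation B N]
    (s : Ideal A) [s.IsPrime] (hD : DimDev A B N s) (d : ℕ) (hflat : FlatCA.FlatInDimGE (d + 1) A B N) :
    GenRankLib.Rep A B N s d := by
  obtain ⟨D, hdim⟩ := hD
  have hn := D.pos
  haveI := fun i => D.hp i
  letI : ∀ i, Module A (D.M i) := fun i => D.mRM i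
  haveI : ∀ i, IsScalarTower A (D.A i) (D.M i) := fun i => IsScalarTower.of_algebraMap_smul fun r m => by
    rw [IsScalarTower.algebraMap_apply A (D.B i) (D.A i), algebraMap_smul, algebraMap_smul]
  haveI : IsScalarTower A B (D.M 0) := IsScalarTower.of_algebraMap_smul fun r m => by
    rw [← algebraMap_smul (D.A 0) (algebraMap A B r) m, ← IsScalarTower.algebraMap_apply A B (D.A 0), algebraMap_smul]
  haveI : ∀ i, IsScalarTower A (D.B i) (D.M (i + 1)) := fun i => IsScalarTower.of_algebraMap_smul fun r m => by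
    rw [← algebraMap_smul (D.A (i + 1)) (algebraMap A (D.B i) r) m, ← IsScalarTower.algebraMap_apply A (D.B i) (D.A (i + 1)),
      algebraMap_smul]
  -- presentations
  have hfp : ∀ i, i < D.n → Algebra.FinitePresentation A (D.A i) ∧ Module.FinitePresentation (D.A i) (D.M i) ∧
      Module.FinitePresentation (D.B i) (D.M i) := by
    have hB : ∀ i, i < D.n → Algebra.FinitePresentation A (D.A i) → Module.FinitePresentation (D.A i) (D.M i) →
        Module.FinitePresentation (D.B i) (D.M i) := fun i hi hA hM => by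
      haveI := hA
      haveI := hM
      haveI := D.smooth i hi
      haveI := D.finiteBA i hi
      haveI : Algebra.FinitePresentation (D.B i) (D.A i) :=
        Algebra.FinitePresentation.of_restrict_scalars_finitePresentation A (D.B i) (D.A i)
      haveI : Module.FinitePresentation (D.B i) (D.A i) := Module.FinitePresentation.of_finite_of_finitePresentation _ _
      exact Module.FinitePresentation.trans (D.B i) (D.M i) (D.A i)
    intro i
    induction i with
    | zero =>
      intro h0
      haveI := D.fpSA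
      haveI : Algebra.FinitePresentation A (D.A 0) := Algebra.FinitePresentation.trans A B (D.A 0)
      haveI : Module.Finite B (D.A 0) := Module.Finite.of_surjective (Algebra.linearMap B (D.A 0)) D.surjSA
      haveI : Module.FinitePresentation B (D.M 0) := Module.FinitePresentation.of_equiv D.isoN
      haveI : Module.FinitePresentation (D.A 0) (D.M 0) := DevissLib.fp_of_finite_algebra (B := B)
      exact ⟨inferInstance, inferInstance, hB 0 h0 inferInstance inferInstance⟩
    | succ i ih =>
      intro hi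
      obtain ⟨-, -, hMB⟩ := ih (by omega)
      haveI := hMB
      haveI := D.smooth i (by omega)
      haveI := D.fpBA' i hi
      haveI : Algebra.FinitePresentation A (D.A (i + 1)) := Algebra.FinitePresentation.trans A (D.B i) (D.A (i + 1))
      haveI : Module.Finite (D.B i) (D.A (i + 1)) :=
        Module.Finite.of_surjective (Algebra.linearMap (D.B i) (D.A (i + 1))) (D.surjBA' i hi)
      haveI : Module.FinitePresentation (D.B i) (D.M i ⧸ LinearMap.range (D.α i)) :=
        Module.finitePresentation_of_surjective (LinearMap.range (D.α i)).mkQ (Submodule.mkQ_surjective _) (by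
          rw [Submodule.ker_mkQ, LinearMap.range_eq_map]
          exact Module.Finite.fg_top.map _)
      haveI : Module.FinitePresentation (D.B i) (D.M (i + 1)) := Module.FinitePresentation.of_equiv (D.isoCoker i hi)
      haveI : Module.FinitePresentation (D.A (i + 1)) (D.M (i + 1)) := DevissLib.fp_of_finite_algebra (B := D.B i)
      exact ⟨inferInstance, inferInstance, hB (i + 1) hi inferInstance inferInstance⟩
  -- the recursion
  have key : ∀ k i, i + k + 1 = D.n → Hyp A (D.B i) (D.M i) s d → Rep A (D.B i) (D.M i) s d := by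
    intro k
    induction k with
    | zero =>
      intro i hi hH
      have hi0 : i < D.n := by omega
      haveI := (hfp i hi0).2.2
      obtain ⟨e, hsm⟩ := hdim i hi0
      rcases lt_trichotomy e d with h | rfl | h
      · exact rep_small hsm (D.geomIrred i hi0) h
      · obtain ⟨Z, j, h1, h2, h3, h4, h5⟩ := exists_rep_flatInDimGE hsm (D.geomIrred i hi0) (D.M i)
        exact ⟨1, (Ideal.ne_top_iff_one _).1 ‹s.IsPrime›.ne_top, Z, j, h1, h2, h3, h4,
          fun A' B' M' _ _ _ _ _ _ _ _ _ _ _ _ _ _ _ φ hφ _ => h5 A' B' M' φ hφ⟩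
      · refine (step hsm (D.geomIrred i hi0) h (D.α i) (D.fibreIso i hi0) hH).2 ?_
        have hs : Function.Surjective (D.α i) := by
          obtain rfl : i = D.n - 1 := by omega
          exact D.cokerLast
        haveI : Subsingleton (D.M i ⧸ LinearMap.range (D.α i)) :=
          Submodule.Quotient.subsingleton_iff.2 (LinearMap.range_eq_top.2 hs)
        exact rep_zero
    | succ k ih =>
      intro i hi hH
      have hi0 : i < D.n := by omega
      have hi1 : i + 1 < D.n := by omega
      haveI := (hfp i hi0).2.2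
      obtain ⟨e, hsm⟩ := hdim i hi0
      rcases lt_trichotomy e d with h | rfl | h
      · exact rep_small hsm (D.geomIrred i hi0) h
      · obtain ⟨Z, j, h1, h2, h3, h4, h5⟩ := exists_rep_flatInDimGE hsm (D.geomIrred i hi0) (D.M i)
        exact ⟨1, (Ideal.ne_top_iff_one _).1 ‹s.IsPrime›.ne_top, Z, j, h1, h2, h3, h4,
          fun A' B' M' _ _ _ _ _ _ _ _ _ _ _ _ _ _ _ φ hφ _ => h5 A' B' M' φ hφ⟩
      · obtain ⟨hH', hrep⟩ := step hsm (D.geomIrred i hi0) h (D.α i) (D.fibreIso i hi0) hH
        refine hrep (Rep.congr (D.isoCoker i hi1).symm ?_)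
        haveI : Module.Finite (D.B i) (D.A (i + 1)) :=
          Module.Finite.of_surjective (Algebra.linearMap (D.B i) (D.A (i + 1))) (D.surjBA' i hi1)
        haveI := D.finiteBA (i + 1) hi1
        refine (rep_finite_iff (D.A (i + 1)) (D.M (i + 1))).2 ((rep_finite_iff (D.A (i + 1)) (D.M (i + 1))).1
          (ih (i + 1) (by omega) ?_))
        exact (hyp_finite_iff (D.A (i + 1)) (D.M (i + 1))).2
          ((hyp_finite_iff (D.A (i + 1)) (D.M (i + 1))).1 (Hyp.congr (D.isoCoker i hi1) hH'))
  haveI : Module.Finite B (D.A 0) := Module.Finite.of_surjective (Algebra.linearMap B (D.A 0)) D.surjSA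
  haveI := D.finiteBA 0 hn
  have h0 : Hyp A B N s d := fun Q _ _ hQ => (flatInDimGE_iff (d + 1) A B N).1 hflat Q hQ
  have h1 : Hyp A (D.B 0) (D.M 0) s d := (hyp_finite_iff (D.A 0) (D.M 0)).2
    ((hyp_finite_iff (D.A 0) (D.M 0)).1 (Hyp.congr D.isoN h0))
  exact Rep.congr D.isoN.symm ((rep_finite_iff (D.A 0) (D.M 0)).2
    ((rep_finite_iff (D.A 0) (D.M 0)).1 (key (D.n - 1) 0 (by omega) h1)))

end Groth.Agent.PureRep
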