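import Groth.Agent.ASp.SchDesc
import Groth.Agent.ASp.Quot
import Groth.Agent.SchDesc.QAff
import Groth.Agent.FpqcDesc.Basic
import Groth.Agent.GenRankLib.FactorBasis

/-!
Properties of morphisms to a scheme represented by monomorphisms of finite presentation.
-/

set_option autoImplicit false
set_option linter.style.haveILetI false
set_option backward.isDefEq.respectTransparency false
set_option backward.isDefEq.respectTransparency.types false

universe u

open CategoryTheory CategoryTheory.Limits AlgebraicGeometry TopologicalSpace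

noncomputable section

namespace Groth.Agent.PureRep

variable {S : Scheme.{u}}

/-- A property of morphisms to `S` which is stable under composition and local in the flat topology. -/
structure IsGood (P : ∀ ⦃T : Scheme.{u}⦄, (T ⟶ S) → Prop) : Prop where
  comp : ∀ ⦃T' T : Scheme.{u}⦄ (a : T' ⟶ T) (u : T ⟶ S), P u → P (a ≫ u)
  desc : ∀ ⦃T : Scheme.{u}⦄ (u : T ⟶ S),
    (∀ t : T, ∃ (T' : Scheme.{u}) (g : T' ⟶ T), Flat g ∧ t ∈ Set.range g ∧ P (g ≫ u)) → P u

/-- The property is represented over `V` by a monomorphism of finite presentation. -/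
def RepMono (P : ∀ ⦃T : Scheme.{u}⦄, (T ⟶ S) → Prop) {V : Scheme.{u}} (i : V ⟶ S) : Prop :=
  ∃ (Z : Scheme.{u}) (e : Z ⟶ V), Mono e ∧ LocallyOfFinitePresentation e ∧ QuasiCompact e ∧
    ∀ (T : Scheme.{u}) (v : T ⟶ V), (∃ v' : T ⟶ Z, v' ≫ e = v) ↔ P (v ≫ i)

variable {P Q : ∀ ⦃T : Scheme.{u}⦄, (T ⟶ S) → Prop} {V : Scheme.{u}} {i : V ⟶ S}

theorem IsGood.loc (hP : IsGood P) ⦃T : Scheme.{u}⦄ (u : T ⟶ S)
    (h : ∀ t : T, ∃ W : T.Opens, t ∈ W ∧ P (W.ι ≫ u)) : P u :=
  hP.desc u fun t => by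
    obtain ⟨W, htW, hW⟩ := h t
    exact ⟨_, W.ι, inferInstance, ⟨⟨t, htW⟩, rfl⟩, hW⟩

theorem RepMono.congr (h : RepMono P i) (hPQ : ∀ (T : Scheme.{u}) (v : T ⟶ V), P (v ≫ i) ↔ Q (v ≫ i)) :
    RepMono Q i := by
  obtain ⟨Z, e, h1, h2, h3, h4⟩ := h
  exact ⟨Z, e, h1, h2, h3, fun T v => (h4 T v).trans (hPQ T v)⟩

theorem repMono_of_forall (h : ∀ (T : Scheme.{u}) (v : T ⟶ V), P (v ≫ i)) : RepMono P i :=
  ⟨V, 𝟙 V, inferInstance, inferInstance, inferInstance, fun T v =>
    iff_of_true ⟨v, Category.comp_id v⟩ (h T v)⟩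

theorem RepMono.pullback {V' : Scheme.{u}} (a : V' ⟶ V) (h : RepMono P i) : RepMono P (a ≫ i) := by
  obtain ⟨Z, e, h1, h2, h3, h4⟩ := h
  refine ⟨Limits.pullback e a, pullback.snd e a, inferInstance, MorphismProperty.pullback_snd _ _ h2,
    MorphismProperty.pullback_snd _ _ h3, fun T v => ?_⟩
  rw [← Category.assoc, ← h4]
  constructor
  · rintro ⟨v', rfl⟩
    exact ⟨v' ≫ pullback.fst e a, by rw [Category.assoc, pullback.condition, Category.assoc]⟩
  · rintro ⟨v', hv'⟩
    exact ⟨pullback.lift v' v hv', pullback.lift_snd _ _ _⟩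

/-- Over a monomorphism representing a weaker property. -/
theorem repMono_of_comp {Z : Scheme.{u}} (e : Z ⟶ V) [Mono e] [LocallyOfFinitePresentation e] [QuasiCompact e]
    (hP : ∀ (T : Scheme.{u}) (v : T ⟶ V), (∃ v' : T ⟶ Z, v' ≫ e = v) ↔ P (v ≫ i))
    (hQP : ∀ (T : Scheme.{u}) (v : T ⟶ V), Q (v ≫ i) → P (v ≫ i)) (h : RepMono Q (e ≫ i)) : RepMono Q i := by
  obtain ⟨Y, g, h1, h2, h3, h4⟩ := h
  refine ⟨Y, g ≫ e, mono_comp g e, inferInstance, inferInstance, fun T v => ⟨?_, fun hv => ?_⟩⟩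
  · rintro ⟨v', rfl⟩
    rw [← Category.assoc, Category.assoc _ e i]
    exact (h4 T _).1 ⟨v', rfl⟩
  · obtain ⟨v', rfl⟩ := (hP T v).2 (hQP T v hv)
    obtain ⟨w, hw⟩ := (h4 T v').2 (by rwa [← Category.assoc])
    exact ⟨w, by rw [← Category.assoc, hw]⟩

theorem RepMono.inter (h : RepMono P i) (h' : RepMono Q i) :
    RepMono (fun ⦃_⦄ u => P u ∧ Q u) i := by
  obtain ⟨Z, e, h1, h2, h3, h4⟩ := h
  refine repMono_of_comp e h4 (fun T v hv => hv.1) ?_
  obtain ⟨Y, g, g1, g2, g3, g4⟩ := h'.pullback e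
  refine ⟨Y, g, g1, g2, g3, fun T v => (g4 T v).trans ⟨fun hq => ⟨?_, hq⟩, fun hq => hq.2⟩⟩
  rw [← Category.assoc]
  exact (h4 T _).1 ⟨v, rfl⟩

theorem repMono_forall {ι : Type} [Finite ι] {R : ι → ∀ ⦃T : Scheme.{u}⦄, (T ⟶ S) → Prop}
    (h : ∀ j, RepMono (R j) i) : RepMono (fun ⦃_⦄ u => ∀ j, R j u) i := by
  classical
  haveI := Fintype.ofFinite ι
  suffices ∀ s : Finset ι, RepMono (fun ⦃_⦄ u => ∀ j ∈ s, R j u) i by
    exact (this Finset.univ).congr fun T v => ⟨fun h j => h j (Finset.mem_univ j), fun h j _ => h j⟩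
  intro s
  induction s using Finset.induction_on with
  | empty => exact repMono_of_forall fun T v j hj => absurd hj (Finset.notMem_empty j)
  | insert a s ha ih =>
    exact ((h a).inter ih).congr fun T v => by simp

/-- The universal property may be tested on affine schemes. -/
theorem repMono_of_affine (hP : IsGood P) {Z : Scheme.{u}} (e : Z ⟶ V) [Mono e] [LocallyOfFinitePresentation e]
    [QuasiCompact e] (h : ∀ (T : Scheme.{u}) [IsAffine T] (v : T ⟶ V), (∃ v' : T ⟶ Z, v' ≫ e = v) ↔ P (v ≫ i)) :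
    RepMono P i := by
  refine ⟨Z, e, inferInstance, inferInstance, inferInstance, fun T v => ⟨?_, fun hv => ?_⟩⟩
  · rintro ⟨v', rfl⟩
    refine hP.desc _ fun t => ?_
    obtain ⟨j, y, hy⟩ := T.affineCover.exists_eq t
    refine ⟨_, T.affineCover.f j, inferInstance, ⟨y, hy⟩, ?_⟩
    rw [← Category.assoc]
    exact (h _ _).1 ⟨T.affineCover.f j ≫ v', by rw [Category.assoc]⟩
  · choose g hg using fun j => (h _ (T.affineCover.f j ≫ v)).2 (by
      rw [Category.assoc]; exact hP.comp _ _ hv)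
    refine ⟨T.affineCover.glueMorphisms g (fun a b => ?_), T.affineCover.hom_ext _ _ fun j => ?_⟩
    · rw [← cancel_mono e, Category.assoc, Category.assoc, hg, hg, pullback.condition_assoc]
    · rw [← Category.assoc, Scheme.Cover.ι_glueMorphisms]
      exact hg j

/-- Representability descends along flat coverings of affine schemes by affine schemes. -/
theorem repMono_descend (hP : IsGood P) {W : Scheme.{u}} [IsAffine V] [IsAffine W] (p : W ⟶ V) [Flat p] [Surjective p]
    (h : RepMono P (p ≫ i)) : RepMono P i := by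
  obtain ⟨Z, e, h1, h2, h3, h4⟩ := h
  haveI := h1
  haveI := h2
  haveI := h3
  haveI := ASp.locallyQuasiFinite_of_mono e
  haveI : Z.IsQuasiAffine := ASp.isQuasiAffine_of_lqf e
  have hex : ∀ {T : Scheme.{u}} (x₀ x₁ : T ⟶ W), x₀ ≫ p = x₁ ≫ p →
      ∀ _v : _root_.Desc.Lifts (Over.mk e) x₀, Nonempty (_root_.Desc.Lifts (Over.mk e) x₁) := by
    intro T x₀ x₁ hx v
    have hv := (h4 T x₀).1 ⟨v.1, v.2⟩
    rw [← Category.assoc, hx, Category.assoc] at hv
    obtain ⟨w, hw⟩ := (h4 T x₁).2 hv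
    exact ⟨⟨w, hw⟩⟩
  haveI hsub : ∀ {T : Scheme.{u}} (x : T ⟶ W), Subsingleton (_root_.Desc.Lifts (Over.mk e) x) := fun x =>
    ⟨fun a b => Subtype.ext ((cancel_mono e).1 (a.2.trans b.2.symm))⟩
  let φ : ∀ {T : Scheme.{u}} (x₀ x₁ : T ⟶ W), x₀ ≫ p = x₁ ≫ p →
      (_root_.Desc.Lifts (Over.mk e) x₀ ≃ _root_.Desc.Lifts (Over.mk e) x₁) := fun x₀ x₁ hx =>
    equivOfSubsingletonOfSubsingleton (fun v => (hex x₀ x₁ hx v).some) (fun v => (hex x₁ x₀ hx.symm v).some)
  let D : _root_.Desc.SchDD p :=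
    { obj := Over.mk e
      φ := fun T => φ
      φ_natural := fun T T' g x₀ x₁ hx hx' v v' _ => by
        generalize φ (g ≫ x₀) (g ≫ x₁) hx' v' = b
        generalize φ x₀ x₁ hx v = a
        have hb : b.1 ≫ e = g ≫ x₁ := b.2
        have ha : a.1 ≫ e = x₁ := a.2
        rw [← cancel_mono e, hb, Category.assoc, ha]
      φ_self := fun T x v => Subsingleton.elim _ _
      φ_comp := fun T x₀ x₁ x₂ _ _ v => Subsingleton.elim _ _ }
  haveI : D.obj.left.IsQuasiAffine := ‹Z.IsQuasiAffine›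
  obtain ⟨QQ⟩ := SchDesc.quot_of_quasiAffine D
  haveI : IsAffineHom p := isAffineHom_of_isAffine _
  haveI : SchDesc.IsFpqc p := SchDesc.IsFpqc.of_quasiCompact p
  let π : Z ⟶ QQ.U := (Scheme.topIso Z).inv ≫ QQ.π
  have hpb : IsPullback e π p QQ.str := by
    refine QQ.isPullback.of_iso (Scheme.topIso Z) (Iso.refl _) (Iso.refl _) (Iso.refl _) ?_ ?_ (by simp) (by simp)
    · simp [D]
    · simp [π]
  have hQ : (@Surjective ⊓ @Flat ⊓ @QuasiCompact : MorphismProperty Scheme.{u}) p :=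
    ⟨⟨inferInstance, inferInstance⟩, inferInstance⟩
  haveI := @FpqcDesc.mono_descends.{u}
  haveI := @FpqcDesc.quasiCompact_descends.{u}
  haveI hm : Mono QQ.str := MorphismProperty.of_isPullback_of_descendsAlong
    (P := MorphismProperty.monomorphisms Scheme.{u}) (Q := @Surjective ⊓ @Flat ⊓ @QuasiCompact) hpb hQ h1
  haveI : LocallyOfFinitePresentation QQ.str := MorphismProperty.of_isPullback_of_descendsAlong
    (P := @LocallyOfFinitePresentation) (Q := @Surjective ⊓ @Flat ⊓ @QuasiCompact) hpb hQ h2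
  haveI : QuasiCompact QQ.str := MorphismProperty.of_isPullback_of_descendsAlong
    (P := @QuasiCompact) (Q := @Surjective ⊓ @Flat ⊓ @QuasiCompact) hpb hQ h3
  refine ⟨QQ.U, QQ.str, hm, inferInstance, inferInstance, fun T v => ?_⟩
  let q := pullback.fst v p
  haveI : SchDesc.IsFpqc q := SchDesc.IsFpqc.of_isPullback (IsPullback.of_hasPullback v p).flip
  constructor
  · rintro ⟨v', rfl⟩
    let q' := pullback.fst (v' ≫ QQ.str) p
    haveI : SchDesc.IsFpqc q' := SchDesc.IsFpqc.of_isPullback (IsPullback.of_hasPullback (v' ≫ QQ.str) p).flip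
    let z := hpb.lift (pullback.snd (v' ≫ QQ.str) p) (q' ≫ v') (by
      rw [Category.assoc]; exact pullback.condition.symm)
    have hz := (h4 _ _).1 ⟨z, hpb.lift_fst _ _ _⟩
    refine hP.desc _ fun t => ?_
    obtain ⟨t', ht'⟩ := q'.surjective t
    refine ⟨_, q', inferInstance, ⟨t', ht'⟩, ?_⟩
    rw [← Category.assoc, show q' ≫ v' ≫ QQ.str = pullback.snd _ _ ≫ p from pullback.condition, Category.assoc]
    exact hz
  · intro hv
    obtain ⟨z, hz⟩ := (h4 _ (pullback.snd v p)).2 (by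
      rw [← Category.assoc, ← pullback.condition, Category.assoc]
      exact hP.comp _ _ hv)
    let f := pullback.fst v QQ.str
    haveI : Mono f := inferInstance
    have hzs : (z ≫ π) ≫ QQ.str = q ≫ v := by
      rw [Category.assoc, ← hpb.w, ← Category.assoc, hz]
      exact pullback.condition.symm
    let s : pullback v p ⟶ pullback f q :=
      pullback.lift (pullback.lift q (z ≫ π) hzs.symm) (𝟙 _) (by rw [pullback.lift_fst, Category.id_comp])
    haveI : IsSplitEpi (pullback.snd f q) := IsSplitEpi.mk' ⟨s, pullback.lift_snd _ _ _⟩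
    haveI : IsIso (pullback.snd f q) := isIso_of_mono_of_isSplitEpi _
    haveI : IsIso f := SchDesc.IsFpqc.isIso_of_isPullback (IsPullback.of_hasPullback f q)
    refine ⟨inv f ≫ pullback.snd v QQ.str, ?_⟩
    rw [Category.assoc, ← pullback.condition, IsIso.inv_hom_id_assoc]

/-- Gluing over a basis of affine opens. -/
theorem repMono_glue (hP : IsGood P) (G : Set S.affineOpens) (hG : Opens.IsBasis ((fun V => V.1) '' G))
    (h : ∀ V ∈ G, RepMono P V.1.ι) : RepMono P (𝟙 S) := by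
  choose Z e h1 h2 h3 h4 using fun V : G => h V.1 V.2
  obtain ⟨Y, j, hj, hpb, huniv⟩ := FactorBasis.exists_glued G hG P hP.comp hP.loc Z e h1 h4
  refine ⟨Y, j, hj, FactorBasis.of_pieces G hG Z e @LocallyOfFinitePresentation j hpb h2,
    FactorBasis.of_pieces G hG Z e @QuasiCompact j hpb h3, fun T v => ?_⟩
  rw [Category.comp_id]
  exact huniv T v

end Groth.Agent.PureRep
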