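import Groth.Agent.PureRepLib.Bridge
import Groth.Agent.PureRepLib.RepMono
import Mathlib.RingTheory.AlgebraicIndependent.TranscendenceBasis

/-!
The functor of flatness in dimensions at least `n`.
-/

set_option autoImplicit false
set_option linter.style.haveILetI false
set_option backward.isDefEq.respectTransparency false
set_option backward.isDefEq.respectTransparency.types false
set_option backward.defeqAttrib.useBackward true

universe u

open CategoryTheory CategoryTheory.Limits AlgebraicGeometry TopologicalSpace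
open scoped TensorProduct

noncomputable section

namespace Groth.Agent.PureRep

variable (A : Type u) [CommRing A] (B : Type u) [CommRing B] [Algebra A B] [Algebra.FiniteType A B]
  (N : Type u) [AddCommGroup N] [Module B N]

theorem isGood_P (n : ℕ) : IsGood (P A B N n) where
  comp T' T a u h := GenFreeLocus.flatDimGE_stable (fB A B) (FN B N) n
    (Over.homMk a : Over.mk (a ≫ u) ⟶ Over.mk u) h
  desc T u h := GenFreeLocus.flatDimGE_desc (fB A B) (FN B N) n (Over.mk u) fun t => by
    obtain ⟨T', g, hg, ht, hP⟩ := h t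
    exact ⟨Over.mk (g ≫ u), Over.homMk g, hg, ht, hP⟩

omit [Algebra.FiniteType A B] in
theorem P_mono {n m : ℕ} (h : n ≤ m) ⦃T : Scheme.{u}⦄ (u : T ⟶ Spec (CommRingCat.of A)) (hu : P A B N n u) :
    P A B N m u := fun x hx => (hu x hx).trans_le (Nat.cast_le.2 h)

attribute [local instance] Algebra.TensorProduct.rightAlgebra

/-- Two models of a base change agree. -/
theorem P_spec_tensor_iff (n : ℕ) (A' : Type u) [CommRing A'] [Algebra A A'] :
    P A B N n (Spec.map (CommRingCat.ofHom (algebraMap A A'))) ↔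
      FlatCA.FlatInDimGE n A' (A' ⊗[A] B) ((A' ⊗[A] B) ⊗[B] N) :=
  haveI : Algebra.IsPushout A B A' (A' ⊗[A] B) := Algebra.IsPushout.symm inferInstance
  P_spec_iff B N n A' (A' ⊗[A] B) ((A' ⊗[A] B) ⊗[B] N) _ (TensorProduct.isBaseChange B N (A' ⊗[A] B))

/-- Above the number of generators everything is flat in that dimension. -/
theorem exists_P_top : ∃ n₀ : ℕ, ∀ ⦃T : Scheme.{u}⦄ (u : T ⟶ Spec (CommRingCat.of A)), P A B N n₀ u := by
  obtain ⟨k, π, hπ⟩ := Algebra.FiniteType.iff_quotient_mvPolynomial''.mp ‹Algebra.FiniteType A B›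
  refine ⟨k + 1, fun T u => (isGood_P A B N _).desc u fun t => ?_⟩
  obtain ⟨j, y, hy⟩ := T.affineCover.exists_eq t
  refine ⟨_, T.affineCover.f j, inferInstance, ⟨y, hy⟩, ?_⟩
  obtain ⟨A', φ, w, hw⟩ : ∃ (A' : CommRingCat.{u}) (φ : CommRingCat.of A ⟶ A') (w : T.affineCover.X j ≅ Spec A'),
      T.affineCover.f j ≫ u = w.hom ≫ Spec.map φ :=
    ⟨_, Spec.preimage ((T.affineCover.X j).isoSpec.inv ≫ T.affineCover.f j ≫ u), (T.affineCover.X j).isoSpec,
      by rw [Spec.map_preimage, Iso.hom_inv_id_assoc]⟩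
  rw [hw]
  refine (isGood_P A B N _).comp _ _ ?_
  letI : Algebra A A' := φ.hom.toAlgebra
  let B' := A' ⊗[A] B
  show P A B N (k + 1) (Spec.map (CommRingCat.ofHom (algebraMap A A')))
  rw [P_spec_tensor_iff, GenRankLib.flatInDimGE_iff]
  intro Q _ _
  let R := A' ⧸ Q.under A'
  let g : MvPolynomial (Fin k) R →ₐ[R] B' ⧸ Q :=
    MvPolynomial.aeval fun i => Ideal.Quotient.mk Q (1 ⊗ₜ π (MvPolynomial.X i))
  have hg : Function.Surjective g := by
    intro x
    obtain ⟨x, rfl⟩ := Ideal.Quotient.mk_surjective x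
    induction x using TensorProduct.induction_on with
    | zero => exact ⟨0, by rw [map_zero, map_zero]⟩
    | add x y hx hy =>
      obtain ⟨a, ha⟩ := hx
      obtain ⟨b, hb⟩ := hy
      exact ⟨a + b, by rw [map_add, map_add, ha, hb]⟩
    | tmul a b =>
      obtain ⟨f, rfl⟩ := hπ b
      let ψ : MvPolynomial (Fin k) A →ₐ[A] B' ⧸ Q :=
        (Ideal.Quotient.mkₐ A Q).comp ((Algebra.TensorProduct.includeRight : B →ₐ[A] B').comp π)
      have h1 : g (MvPolynomial.map (algebraMap A R) f) = ψ f := by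
        rw [MvPolynomial.aeval_map_algebraMap, MvPolynomial.aeval_unique ψ]
        rfl
      refine ⟨MvPolynomial.C (Ideal.Quotient.mk _ a) * MvPolynomial.map (algebraMap A R) f, ?_⟩
      rw [map_mul, h1, MvPolynomial.aeval_C]
      show Ideal.Quotient.mk Q (algebraMap A' B' a) * Ideal.Quotient.mk Q (1 ⊗ₜ π f) = _
      rw [← map_mul, Algebra.TensorProduct.algebraMap_apply, Algebra.TensorProduct.tmul_mul_tmul, mul_one, one_mul]
      rfl
  refine lt_of_le_of_lt (trdeg_le_of_surjective g hg) ?_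
  rw [MvPolynomial.trdeg_of_isDomain, Cardinal.mk_fin, Cardinal.lift_natCast, Nat.cast_lt]
  exact Nat.lt_succ_self k

end Groth.Agent.PureRep
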