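import Groth.Agent.RelAssLib.Sch
import Groth.Agent.PureRepLib.Bridge

/-!
The relative associated points of an associated sheaf are associated points of the fibres.
-/

set_option autoImplicit false
set_option linter.style.haveILetI false
set_option backward.isDefEq.respectTransparency false
set_option backward.isDefEq.respectTransparency.types false

universe u

open CategoryTheory AlgebraicGeometry

noncomputable section

namespace Groth.Agent.PureRep

/-- The bundled statement. -/
theorem fibre_of_mem_relAss' {R S : CommRingCat.{u}} [Algebra R S] [Algebra.FiniteType R S] (φ : R ⟶ S)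
    (hφ : algebraMap R S = φ.hom) (M : ModuleCat.{u} S) [Module R M] [IsScalarTower R S M]
    (z : PrimeSpectrum S) (hz : z ∈ MoreMor.relAss (Spec.map φ) (tilde M)) :
    FlatCA.fiberIdeal (z.asIdeal.under R) z.asIdeal ∈
      associatedPrimes ((z.asIdeal.under R).Fiber S) (FlatCA.fiberMod (z.asIdeal.under R) S M) := by
  let f := Spec.map φ
  let p : PrimeSpectrum R := f z
  have hp : p.asIdeal = z.asIdeal.under R := by
    show z.asIdeal.comap φ.hom = z.asIdeal.comap (algebraMap R S)
    rw [hφ]
  let O := (Spec R).presheaf.stalk (f z)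
  let O' := (Spec S).presheaf.stalk z
  let L := (tilde M).presheaf.stalk z
  letI : Algebra R O := StructureSheaf.stalkAlgebra R p
  haveI : IsLocalization.AtPrime O p.asIdeal := StructureSheaf.IsLocalization.to_stalk R p
  letI : Algebra S O' := StructureSheaf.stalkAlgebra S z
  haveI : IsLocalization.AtPrime O' z.asIdeal := StructureSheaf.IsLocalization.to_stalk S z
  letI : Module S L := inferInstanceAs (Module S ((tilde M).presheaf.stalk (z : PrimeSpectrum.Top S)))
  haveI : IsScalarTower S O' L :=
    inferInstanceAs (IsScalarTower S ((structurePresheafInCommRingCat S).stalk z)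
      ↑(TopCat.Presheaf.stalk (moduleStructurePresheaf S M).presheaf z))
  haveI : IsLocalizedModule z.asIdeal.primeCompl (tilde.toStalk M z).hom := inferInstance
  haveI : IsNoetherianRing ((z.asIdeal.under R).Fiber S) :=
    Algebra.FiniteType.isNoetherianRing (z.asIdeal.under R).ResidueField _
  have hmax : ((z.asIdeal.under R).map (algebraMap R S)).map (algebraMap S O') =
      (IsLocalRing.maximalIdeal O).map (f.stalkMap z).hom := by
    rw [← IsLocalization.AtPrime.map_eq_maximalIdeal p.asIdeal O, Ideal.map_map, Ideal.map_map, hp]
    congr 1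
    refine RingHom.ext fun a => ?_
    show (Spec S).presheaf.germ ⊤ z trivial ((Scheme.ΓSpecIso S).inv (algebraMap R S a)) =
      f.stalkMap z ((Spec R).presheaf.germ ⊤ (f z) trivial ((Scheme.ΓSpecIso R).inv a))
    rw [Scheme.Hom.germ_stalkMap_apply]
    show _ = (Spec S).presheaf.germ ⊤ z trivial (f.appTop ((Scheme.ΓSpecIso R).inv a))
    congr 1
    rw [hφ]
    exact congr($(Scheme.ΓSpecIso_inv_naturality φ) a)
  refine RelAssLib.fibre_of_isAssociatedPrime_stalk (O := O') (L := L) (z.asIdeal.under R) z.asIdeal
    (tilde.toStalk M z).hom ?_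
  rw [hmax]
  exact hz

variable (A B : Type u) [CommRing A] [CommRing B] [Algebra A B] [Algebra.FiniteType A B]
  (N : Type u) [AddCommGroup N] [Module B N] [Module A N] [IsScalarTower A B N]

/-- Relative associated points of an associated sheaf. -/
theorem fibre_of_mem_relAss (z : PrimeSpectrum B) (hz : z ∈ MoreMor.relAss (fB A B) (FN B N)) :
    FlatCA.fiberIdeal (z.asIdeal.under A) z.asIdeal ∈
      associatedPrimes ((z.asIdeal.under A).Fiber B) (FlatCA.fiberMod (z.asIdeal.under A) B N) := by
  letI : Module (CommRingCat.of A) (ModuleCat.of B N) := inferInstanceAs (Module A N)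
  haveI : IsScalarTower (CommRingCat.of A) (CommRingCat.of B) (ModuleCat.of B N) :=
    inferInstanceAs (IsScalarTower A B N)
  haveI : Algebra.FiniteType (CommRingCat.of A) (CommRingCat.of B) := inferInstanceAs (Algebra.FiniteType A B)
  exact fibre_of_mem_relAss' (CommRingCat.ofHom (algebraMap A B)) rfl (ModuleCat.of B N) z hz

end Groth.Agent.PureRep
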