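import Groth.Agent.PureRepLib.Dim
import Groth.Agent.PureRepLib.RelAss
import Groth.Agent.EtaleDimLib.Main
import Groth.Agent.TildeFinLib.Basic

/-!
Base change, and étale coverings of the relative associated points.
-/

set_option autoImplicit false
set_option linter.style.haveILetI false
set_option backward.isDefEq.respectTransparency false
set_option backward.isDefEq.respectTransparency.types false
set_option backward.defeqAttrib.useBackward true
set_option maxHeartbeats 1000000

universe u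

open CategoryTheory CategoryTheory.Limits AlgebraicGeometry TopologicalSpace
open scoped TensorProduct

noncomputable section

namespace Groth.Agent.PureRep

theorem IsGood.pullback {S' S : Scheme.{u}} {P : ∀ ⦃T : Scheme.{u}⦄, (T ⟶ S) → Prop} (hP : IsGood P) (a : S' ⟶ S) :
    IsGood (fun ⦃T⦄ (u : T ⟶ S') => P (u ≫ a)) where
  comp T' T b u h := by rw [Category.assoc]; exact hP.comp b _ h
  desc T u h := hP.desc _ fun t => by
    obtain ⟨T', g, h1, h2, h3⟩ := h t
    exact ⟨T', g, h1, h2, by rwa [← Category.assoc]⟩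

/-- Two such properties agreeing on affine schemes agree. -/
theorem IsGood.iff_of_affine {S : Scheme.{u}} {P Q : ∀ ⦃T : Scheme.{u}⦄, (T ⟶ S) → Prop} (hP : IsGood P)
    (hQ : IsGood Q) (h : ∀ (R : CommRingCat.{u}) (u : Spec R ⟶ S), P u ↔ Q u) ⦃T : Scheme.{u}⦄ (u : T ⟶ S) :
    P u ↔ Q u := by
  have h' : ∀ (W : Scheme.{u}) [IsAffine W] (v : W ⟶ S), P v ↔ Q v := fun W _ v => by
    have hv : v = W.isoSpec.hom ≫ W.isoSpec.inv ≫ v := (Iso.hom_inv_id_assoc _ _).symm
    constructor
    · intro h1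
      rw [hv]
      exact hQ.comp _ _ ((h _ _).1 (hP.comp _ _ h1))
    · intro h1
      rw [hv]
      exact hP.comp _ _ ((h _ _).2 (hQ.comp _ _ h1))
  constructor <;> intro hu
  · refine hQ.desc u fun t => ?_
    obtain ⟨j, y, hy⟩ := T.affineCover.exists_eq t
    exact ⟨_, T.affineCover.f j, inferInstance, ⟨y, hy⟩, (h' _ _).1 (hP.comp _ _ hu)⟩
  · refine hP.desc u fun t => ?_
    obtain ⟨j, y, hy⟩ := T.affineCover.exists_eq t
    exact ⟨_, T.affineCover.f j, inferInstance, ⟨y, hy⟩, (h' _ _).2 (hQ.comp _ _ hu)⟩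

attribute [local instance] Algebra.TensorProduct.rightAlgebra

/-- The condition after a base change. -/
theorem P_baseChange_iff {A B A₁ B₁ : Type u} [CommRing A] [CommRing B] [CommRing A₁] [CommRing B₁] [Algebra A B]
    [Algebra.FiniteType A B] [Algebra A A₁] [Algebra B B₁] [Algebra A₁ B₁] [Algebra A B₁] [IsScalarTower A B B₁]
    [IsScalarTower A A₁ B₁] [Algebra.IsPushout A B A₁ B₁] [Algebra.FiniteType A₁ B₁]
    (N N₁ : Type u) [AddCommGroup N] [Module B N] [AddCommGroup N₁] [Module B₁ N₁] [Module B N₁] [IsScalarTower B B₁ N₁]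
    (f : N →ₗ[B] N₁) (hf : IsBaseChange B₁ f) (n : ℕ) ⦃T : Scheme.{u}⦄ (u : T ⟶ Spec (CommRingCat.of A₁)) :
    P A₁ B₁ N₁ n u ↔ P A B N n (u ≫ Spec.map (CommRingCat.ofHom (algebraMap A A₁))) := by
  refine IsGood.iff_of_affine (isGood_P A₁ B₁ N₁ n) ((isGood_P A B N n).pullback _) (fun R v => ?_) u
  obtain ⟨φ, rfl⟩ : ∃ φ : CommRingCat.of A₁ ⟶ R, v = Spec.map φ := ⟨_, (Spec.map_preimage v).symm⟩
  letI : Algebra A₁ R := φ.hom.toAlgebra
  letI : Algebra A R := (φ.hom.comp (algebraMap A A₁)).toAlgebra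
  haveI : IsScalarTower A A₁ R := .of_algebraMap_eq fun _ => rfl
  rw [show Spec.map φ = Spec.map (CommRingCat.ofHom (algebraMap A₁ R)) from rfl, ← Spec.map_comp,
    show CommRingCat.ofHom (algebraMap A A₁) ≫ CommRingCat.ofHom (algebraMap A₁ R) =
      CommRingCat.ofHom (algebraMap A R) from rfl]
  let B₂ := R ⊗[A₁] B₁
  haveI : Algebra.IsPushout A₁ B₁ R B₂ := Algebra.IsPushout.symm inferInstance
  letI : Algebra B B₂ := ((algebraMap B₁ B₂).comp (algebraMap B B₁)).toAlgebra
  haveI : IsScalarTower B B₁ B₂ := .of_algebraMap_eq fun _ => rfl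
  haveI : IsScalarTower A R B₂ := inferInstance
  haveI : IsScalarTower A B₁ B₂ := IsScalarTower.of_algebraMap_eq (R := A) (S := B₁) (A := B₂) fun a => by
    rw [IsScalarTower.algebraMap_apply A R B₂, IsScalarTower.algebraMap_apply A A₁ R,
      ← IsScalarTower.algebraMap_apply A₁ R B₂, IsScalarTower.algebraMap_apply A₁ B₁ B₂,
      ← IsScalarTower.algebraMap_apply A A₁ B₁]
  haveI : IsScalarTower A B B₂ := IsScalarTower.of_algebraMap_eq (R := A) (S := B) (A := B₂) fun a => by
    rw [IsScalarTower.algebraMap_apply B B₁ B₂, ← IsScalarTower.algebraMap_apply A B B₁,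
      IsScalarTower.algebraMap_apply A A₁ B₁, ← IsScalarTower.algebraMap_apply A₁ B₁ B₂,
      IsScalarTower.algebraMap_apply A₁ R B₂, ← IsScalarTower.algebraMap_apply A A₁ R,
      ← IsScalarTower.algebraMap_apply A R B₂]
  haveI : Algebra.IsPushout A A₁ B B₁ := Algebra.IsPushout.symm inferInstance
  haveI : Algebra.IsPushout A₁ R B₁ B₂ := Algebra.IsPushout.symm inferInstance
  haveI : Algebra.IsPushout A R B B₂ := (Algebra.IsPushout.comp_iff A A₁ B B₁ (T := R) (T' := B₂)).2 inferInstance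
  haveI : Algebra.IsPushout A B R B₂ := Algebra.IsPushout.symm inferInstance
  let N₂ := B₂ ⊗[B₁] N₁
  letI : Module B N₂ := Module.compHom _ (algebraMap B B₁)
  haveI : IsScalarTower B B₁ N₂ := .of_algebraMap_smul fun _ _ => rfl
  haveI : IsScalarTower B B₂ N₂ := .of_algebraMap_smul fun b (x : N₂) => by
    show algebraMap B B₂ b • x = algebraMap B B₁ b • x
    rw [IsScalarTower.algebraMap_apply B B₁ B₂, algebraMap_smul]
  rw [P_spec_iff (A := A₁) B₁ N₁ n R B₂ N₂ _ (TensorProduct.isBaseChange B₁ N₁ B₂),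
    P_spec_iff (A := A) B N n R B₂ N₂ _ (IsBaseChange.comp hf (TensorProduct.isBaseChange B₁ N₁ B₂))]

/-- Invariance of the condition under isomorphisms. -/
theorem flatDimGE_congr {X S : Scheme.{u}} {f f' : X ⟶ S} (hf : f = f') {F F' : X.Modules} (e : F ≅ F') (n : ℕ)
    (T : Over S) : GenFreeLocus.FlatDimGE f F n T ↔ GenFreeLocus.FlatDimGE f' F' n T := by
  subst hf
  let eT : FGA.ET f F T ≅ FGA.ET f F' T := (Scheme.Modules.pullback (pullback.fst f T.hom)).mapIso e
  exact ⟨fun h x hx => h x fun hh => hx (PullbackMod.isFlatOverAt_of_iso eT _ x hh),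
    fun h x hx => h x fun hh => hx (PullbackMod.isFlatOverAt_of_iso eT.symm _ x hh)⟩

variable {A B : Type u} [CommRing A] [CommRing B] [Algebra A B]
  (N : Type u) [AddCommGroup N] [Module B N]

section Chart

variable (C : Type u) [CommRing C] [Algebra A C] [Algebra B C] [IsScalarTower A B C]
  (L : Type u) [AddCommGroup L] [Module C L] [Module B L] [IsScalarTower B C L] (g : N →ₗ[B] L) (hg : IsBaseChange C g)

theorem fB_comp : Spec.map (CommRingCat.ofHom (algebraMap B C)) ≫ fB A B = fB A C := by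
  rw [fB, fB, ← Spec.map_comp, ← CommRingCat.ofHom_comp, ← IsScalarTower.algebraMap_eq]

/-- The inverse image of the associated sheaf. -/
def pullbackFN : (Scheme.Modules.pullback (Spec.map (CommRingCat.ofHom (algebraMap B C)))).obj (FN B N) ≅ FN C L :=
  (TildePullback.tildePullbackIso (CommRingCat.ofHom (algebraMap B C))).app (ModuleCat.of B N) ≪≫
    (tilde.functor (CommRingCat.of C)).mapIso
      (extendIso B C N ≪≫ LinearEquiv.toModuleIso (X₁ := C ⊗[B] N) (X₂ := L) hg.equiv)

include hg in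
theorem P_chart_iff (n : ℕ) ⦃T : Scheme.{u}⦄ (u : T ⟶ Spec (CommRingCat.of A)) :
    GenFreeLocus.FlatDimGE (Spec.map (CommRingCat.ofHom (algebraMap B C)) ≫ fB A B)
      ((Scheme.Modules.pullback (Spec.map (CommRingCat.ofHom (algebraMap B C)))).obj (FN B N)) n (Over.mk u) ↔
      P A C L n u :=
  flatDimGE_congr (fB_comp C) (pullbackFN N C L g hg) n (Over.mk u)

instance etale_specMap [Algebra.Etale B C] : Etale (Spec.map (CommRingCat.ofHom (algebraMap B C))) :=
  HasRingHomProperty.Spec_iff.2 (RingHom.etale_algebraMap.2 inferInstance)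

include hg in
/-- Flatness in dimensions at least `n` passes to étale algebras. -/
theorem P_etale [Algebra.FiniteType A B] [Algebra.Etale B C] (n : ℕ) ⦃T : Scheme.{u}⦄ (u : T ⟶ Spec (CommRingCat.of A))
    (h : P A B N n u) : P A C L n u :=
  (P_chart_iff N C L g hg n u).1 (EtaleDim.dimFibresLT_pullback (fB A B)
    (Spec.map (CommRingCat.ofHom (algebraMap B C))) (Over.mk u) (FN B N) n h)

end Chart

/-- Flatness in dimensions at least `n` may be tested on étale algebras covering the relative associated points. -/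
theorem P_of_etale_cover [Algebra.FiniteType A B] [Module.Finite B N] {ι : Type} (C : ι → Type u)
    [∀ j, CommRing (C j)] [∀ j, Algebra A (C j)] [∀ j, Algebra B (C j)] [∀ j, IsScalarTower A B (C j)]
    (L : ι → Type u) [∀ j, AddCommGroup (L j)] [∀ j, Module (C j) (L j)] [∀ j, Module B (L j)]
    [∀ j, IsScalarTower B (C j) (L j)] (g : ∀ j, N →ₗ[B] L j) (hg : ∀ j, IsBaseChange (C j) (g j))
    [∀ j, Algebra.Etale B (C j)] (n : ℕ) ⦃T : Scheme.{u}⦄ (u : T ⟶ Spec (CommRingCat.of A))
    (hAss : ∀ z : PrimeSpectrum B, z ∈ MoreMor.relAss (fB A B) (FN B N) →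
      PrimeSpectrum.comap (algebraMap A B) z ∈ Set.range u →
      ∃ (j : ι) (w : PrimeSpectrum (C j)), PrimeSpectrum.comap (algebraMap B (C j)) w = z)
    (h : ∀ j, P A (C j) (L j) n u) : P A B N n u := by
  let f := fB A B
  let F := FN B N
  let To : Over (Spec (CommRingCat.of A)) := Over.mk u
  haveI : Coh.IsQCoh (FGA.ET f F To) := PullbackMod.isQCoh_pullback (pullback.fst f u) F
  have hF : CohB1.IsFT F := (TildeFinLib.isFT_tilde_iff (R := CommRingCat.of B) (ModuleCat.of B N)).2 ‹Module.Finite B N›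
  have hF' : CohB1.IsFT (FGA.ET f F To) := PullbackMod.isFiniteType_pullback _ F hF
  intro y hy
  by_contra hlt
  refine hy (EtaleDim.isFlatOverAt_of_relAssBelow (pullback.snd f u) (FGA.ET f F To) hF' y fun x hx hxy hfx => ?_)
  have ha := (RelAssLib.relAss_baseChange f F (IsPullback.of_hasPullback f u)).1 x hx
  obtain ⟨j, w₀, hw₀⟩ := hAss (pullback.fst f u x) ha ⟨pullback.snd f u x, by
    rw [← Scheme.Hom.comp_apply, ← pullback.condition, Scheme.Hom.comp_apply]
    rfl⟩
  let c := Spec.map (CommRingCat.ofHom (algebraMap B (C j)))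
  obtain ⟨w, -, hw2⟩ := Scheme.exists_preimage_of_isPullback (EtaleDim.isPullback_φT f c To) w₀ x hw₀
  rw [← hw2]
  by_contra hn
  have hj := (P_chart_iff N (C j) (L j) (g j) (hg j) n u).2 (h j)
  have hlt' : Dual3.resTrdeg (pullback.snd f u) x < (n : Cardinal.{u}) := by
    rw [← hw2]
    exact (EtaleDim.trdeg_eq f c To w).symm.trans_lt (hj w fun h1 => hn ((EtaleDim.flatAt_iff f c To F w).1 h1))
  by_cases hne : x = y
  · exact hlt (hne ▸ hlt')
  · exact hlt ((DimFormulaLib.trdeg_lt_of_specializes (pullback.snd f u) x y hxy hne hfx).trans hlt')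

end Groth.Agent.PureRep
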