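import Groth.Agent.PureRepLib.Etale
import Groth.Agent.PureRepLib.Devissage
import Groth.Agent.AssLocusLib.Constr

/-!
Representability near a prime along whose fibre the module is pure.
-/

set_option autoImplicit false
set_option linter.style.haveILetI false
set_option backward.isDefEq.respectTransparency false
set_option backward.isDefEq.respectTransparency.types false
set_option maxHeartbeats 2000000

universe u

open CategoryTheory CategoryTheory.Limits AlgebraicGeometry TopologicalSpace Topology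
open scoped TensorProduct

noncomputable section

namespace Groth.Agent.PureRep

attribute [local instance] Algebra.TensorProduct.rightAlgebra

/-- A constructible set of an affine scheme containing the generizations of a point is a neighbourhood of it. -/
theorem mem_nhds_of_isConstructible {R : Type u} [CommRing R] {E : Set (PrimeSpectrum R)} (hE : IsConstructible E)
    {y : PrimeSpectrum R} (h : ∀ z, z ⤳ y → z ∈ E) : E ∈ 𝓝 y := by
  obtain ⟨S, _, φ, hφ⟩ := PrimeSpectrum.exists_range_eq_of_isConstructible hE.compl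
  rw [← compl_compl E, ← mem_interior_iff_mem_nhds, interior_compl, Set.mem_compl_iff]
  rw [← hφ, PrimeSpectrum.closure_range_comap]
  intro hy
  obtain ⟨p, hp, hle⟩ := Ideal.exists_minimalPrimes_le ((PrimeSpectrum.mem_zeroLocus _ _).1 hy)
  haveI := hp.1.1
  obtain ⟨q, hq, hqp⟩ := Ideal.exists_comap_eq_of_mem_minimalPrimes φ p hp
  have hP : (⟨p, hp.1.1⟩ : PrimeSpectrum R) ∈ Eᶜ := hφ ▸ ⟨⟨q, hq⟩, PrimeSpectrum.ext hqp.2⟩
  exact hP (h _ ((PrimeSpectrum.le_iff_specializes (⟨p, hp.1.1⟩ : PrimeSpectrum R) y).1 hle))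

/-- The trivial base change. -/
theorem P_id_iff {A : Type u} [CommRing A] (B : Type u) [CommRing B] [Algebra A B] [Algebra.FiniteType A B]
    (N : Type u) [AddCommGroup N] [Module B N] [Module A N] [IsScalarTower A B N] (n : ℕ) :
    P A B N n (𝟙 (Spec (CommRingCat.of A))) ↔ FlatCA.FlatInDimGE n A B N := by
  rw [← P_spec_iff (A := A) B N n A B N LinearMap.id (IsBaseChange.ofEquiv (LinearEquiv.refl B N))]
  congr! 1
  rw [show CommRingCat.ofHom (algebraMap A A) = 𝟙 (CommRingCat.of A) from rfl, Spec.map_id]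

/-- The universal property over a principal open, from the one on affine schemes. -/
theorem repMono_of_rep {A B : Type u} [CommRing A] [CommRing B] [Algebra A B] [Algebra.FiniteType A B]
    (N : Type u) [AddCommGroup N] [Module B N] (s : Ideal A) (n : ℕ) (h : GenRankLib.Rep A B N s n) :
    ∃ g₀ : A, g₀ ∉ s ∧ ∀ g : A, g₀ ∣ g →
      RepMono (P A B N n) (Spec.map (CommRingCat.ofHom (algebraMap A (Localization.Away g)))) := by
  obtain ⟨g₀, hg₀, Z, i, h1, h2, h3, h4, h5⟩ := h
  refine ⟨g₀, hg₀, fun g hg => ?_⟩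
  let L := Localization.Away g
  let ι := Spec.map (CommRingCat.ofHom (algebraMap A L))
  haveI := h1
  haveI := h2
  haveI := h3
  haveI : LocallyOfFinitePresentation (pullback.snd i ι) := MorphismProperty.pullback_snd _ _ h2
  haveI : QuasiCompact (pullback.snd i ι) := MorphismProperty.pullback_snd _ _ h3
  refine repMono_of_affine (isGood_P A B N n) (pullback.snd i ι) fun T _ v => ?_
  obtain ⟨R, φ, e, hv⟩ : ∃ (R : CommRingCat.{u}) (φ : CommRingCat.of L ⟶ R) (e : T ≅ Spec R),
      v = e.hom ≫ Spec.map φ :=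
    ⟨_, Spec.preimage (T.isoSpec.inv ≫ v), T.isoSpec, by rw [Spec.map_preimage, Iso.hom_inv_id_assoc]⟩
  subst hv
  letI : Algebra L R := φ.hom.toAlgebra
  letI : Algebra A R := (φ.hom.comp (algebraMap A L)).toAlgebra
  have hc : Spec.map φ ≫ ι = Spec.map (CommRingCat.ofHom (algebraMap A R)) := (Spec.map_comp _ _).symm
  have hu : IsUnit (algebraMap A R g₀) := by
    obtain ⟨c, rfl⟩ := hg
    have : IsUnit (algebraMap A R (g₀ * c)) :=
      (IsLocalization.Away.algebraMap_isUnit (S := L) (g₀ * c)).map φ.hom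
    rw [map_mul, IsUnit.mul_iff] at this
    exact this.1
  haveI : Algebra.IsPushout A B R (R ⊗[A] B) := Algebra.IsPushout.symm inferInstance
  have h6 := h5 R (R ⊗[A] B) ((R ⊗[A] B) ⊗[B] N) _ (TensorProduct.isBaseChange B N (R ⊗[A] B)) hu
  rw [← P_spec_tensor_iff] at h6
  have hP : P A B N n ((e.hom ≫ Spec.map φ) ≫ ι) ↔ P A B N n (Spec.map (CommRingCat.ofHom (algebraMap A R))) := by
    rw [Category.assoc, hc]
    refine ⟨fun hh => ?_, (isGood_P A B N n).comp _ _⟩
    have := (isGood_P A B N n).comp e.inv _ hh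
    rwa [Iso.inv_hom_id_assoc] at this
  refine Iff.trans ?_ (h6.symm.trans hP.symm)
  constructor
  · rintro ⟨v', hv'⟩
    exact ⟨e.inv ≫ v' ≫ pullback.fst i ι, by
      rw [Category.assoc, Category.assoc, pullback.condition, ← Category.assoc v', hv', Category.assoc, hc,
        Iso.inv_hom_id_assoc]⟩
  · rintro ⟨k, hk⟩
    exact ⟨e.hom ≫ pullback.lift k (Spec.map φ) (by rw [hk, hc]), by rw [Category.assoc, pullback.lift_snd]⟩

/-- Purity along a fibre: near the fibre, the associated points of the fibres meet an open containing the fibre. -/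
theorem exists_nhd_avoid {A B A' BA : Type u} [CommRing A] [CommRing B] [CommRing A'] [CommRing BA] [Algebra A B]
    [Algebra A A'] [Algebra B BA] [Algebra A' BA] [Algebra A BA] [IsScalarTower A B BA] [IsScalarTower A A' BA]
    [Algebra.IsPushout A B A' BA] [Algebra.FinitePresentation A' BA]
    (N NA : Type u) [AddCommGroup N] [Module B N] [AddCommGroup NA] [Module BA NA] [Module B NA] [IsScalarTower B BA NA]
    [Module A' NA] [IsScalarTower A' BA NA] [Module.FinitePresentation BA NA] (f : N →ₗ[B] NA) (hf : IsBaseChange BA f)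
    (s : Ideal A) [s.IsPrime] (p' : Ideal A') [p'.IsPrime] (hA' : FlatCA.IsEtaleNhd A A' s p')
    (hpure : FlatCA.IsPureAlong A B N s) (U : Set (PrimeSpectrum BA)) (hUo : IsOpen U) (hUc : IsCompact U)
    (hU : ∀ Q : PrimeSpectrum BA, Q.asIdeal.LiesOver p' → Q ∈ U) :
    ∃ h : A', h ∉ p' ∧ ∀ z : PrimeSpectrum BA, h ∉ z.asIdeal.under A' →
      FlatCA.fiberIdeal (z.asIdeal.under A') z.asIdeal ∈
        associatedPrimes ((z.asIdeal.under A').Fiber BA) (FlatCA.fiberMod (z.asIdeal.under A') BA NA) → z ∈ U := by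
  obtain ⟨J, hJ, hJU⟩ := PrimeSpectrum.isCompact_isOpen_iff_ideal.1 ⟨hUc, hUo⟩
  have hmem : ∀ z : PrimeSpectrum BA, z ∈ U ↔ ¬ J ≤ z.asIdeal := fun z => by
    rw [← hJU, Set.mem_compl_iff, PrimeSpectrum.mem_zeroLocus]
    rfl
  let y : PrimeSpectrum A' := ⟨p', inferInstance⟩
  obtain ⟨_, ⟨h, rfl⟩, hy, hh⟩ := (PrimeSpectrum.isTopologicalBasis_basic_opens (R := A')).mem_nhds_iff.1
    (mem_nhds_of_isConstructible (AssLocusLib.isConstructible_avoid (A := A') NA J hJ)
      (y := y) fun t ht Q _ hQt hQ => by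
        haveI := hQt
        intro hle
        refine hpure A' BA NA f t.asIdeal p' Q hA' ⟨inferInstance, hf, (PrimeSpectrum.le_iff_specializes t y).2 ht,
          hA'.2.1, hQt, hQ, fun P' _ hQP hP' => ?_⟩
        exact (hmem ⟨P', inferInstance⟩).1 (hU ⟨P', inferInstance⟩ hP') (hle.trans hQP))
  refine ⟨h, hy, fun z hz hass => (hmem z).2 ?_⟩
  exact hh (show (⟨z.asIdeal.under A', inferInstance⟩ : PrimeSpectrum A') ∈ PrimeSpectrum.basicOpen h from hz)
    z.asIdeal ⟨rfl⟩ hass

theorem exists_repMono_near {A B : Type u} [CommRing A] [CommRing B] [Algebra A B] [Algebra.FinitePresentation A B]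
    (N : Type u) [AddCommGroup N] [Module B N] [Module.FinitePresentation B N] (n : ℕ)
    (hflat : P A B N (n + 1) (𝟙 (Spec (CommRingCat.of A)))) (s : Ideal A) [s.IsPrime]
    (hpure : FlatCA.IsPureAlong A B N s) :
    ∃ g : A, g ∉ s ∧ RepMono (P A B N n) (Spec.map (CommRingCat.ofHom (algebraMap A (Localization.Away g)))) := by
  classical
  obtain ⟨A', _, _, p', hp', hA', hcov⟩ := exists_cover (A := A) (B := B) N s
  haveI := hp'
  haveI := hA'.1
  haveI : p'.LiesOver s := hA'.2.1
  let BA := A' ⊗[A] B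
  let NA := BA ⊗[B] N
  haveI : Algebra.IsPushout A B A' BA := Algebra.IsPushout.symm inferInstance
  haveI : Algebra.FinitePresentation A' BA := inferInstance
  haveI : Module.FinitePresentation BA NA := inferInstance
  let fA : N →ₗ[B] NA := TensorProduct.mk B BA N 1
  have hfA : IsBaseChange BA fA := TensorProduct.isBaseChange B N BA
  obtain ⟨k, C, hC1, hC2, hC3, hC4, L, hL1, hL2, hL3, hL4, g, hCg, hcover⟩ := hcov BA NA fA hfA
  haveI := fun j => (hCg j).1
  haveI : ∀ j, Algebra.FinitePresentation A' (C j) := fun j => Algebra.FinitePresentation.trans A' BA (C j)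
  haveI : ∀ j, Module.FinitePresentation (C j) (L j) := fun j => Module.FinitePresentation.of_equiv (hCg j).2.1.equiv
  letI : ∀ j, Module A' (L j) := fun j => Module.compHom _ (algebraMap A' (C j))
  haveI : ∀ j, IsScalarTower A' (C j) (L j) := fun j => .of_algebraMap_smul fun _ _ => rfl
  let a := Spec.map (CommRingCat.ofHom (algebraMap A A'))
  have hbc : ∀ (m : ℕ) ⦃T : Scheme.{u}⦄ (u : T ⟶ Spec (CommRingCat.of A')),
      P A' BA NA m u ↔ P A B N m (u ≫ a) := fun m => P_baseChange_iff N NA fA hfA m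
  have hrep : ∀ j, ∃ g₀ : A', g₀ ∉ p' ∧ ∀ x : A', g₀ ∣ x →
      RepMono (P A' (C j) (L j) n) (Spec.map (CommRingCat.ofHom (algebraMap A' (Localization.Away x)))) := fun j => by
    refine repMono_of_rep (L j) p' n (rep_of_devissage (L j) p' (hCg j).2.2 n ((P_id_iff (C j) (L j) (n + 1)).1 ?_))
    refine P_etale NA (C j) (L j) (g j) (hCg j).2.1 (n + 1) _ ((hbc _ _).2 ?_)
    have := (isGood_P A B N (n + 1)).comp a _ hflat
    simpa using this
  choose g₀ hg₀ hrep using hrep
  let U : Set (PrimeSpectrum BA) := ⋃ j, Set.range (PrimeSpectrum.comap (algebraMap BA (C j)))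
  have hUo : IsOpen U := isOpen_iUnion fun j =>
    (PrimeSpectrum.isOpenMap_comap_of_hasGoingDown_of_finitePresentation (R := BA) (S := C j)).isOpen_range
  have hUc : IsCompact U := isCompact_iUnion fun j => isCompact_range (PrimeSpectrum.continuous_comap _)
  obtain ⟨h, hh, hav⟩ := exists_nhd_avoid (BA := BA) N NA fA hfA s p' hA' hpure U hUo hUc fun Q hQ => by
    obtain ⟨j, Q', hQ', he⟩ := hcover Q.asIdeal hQ
    exact Set.mem_iUnion.2 ⟨j, ⟨Q', hQ'⟩, PrimeSpectrum.ext he⟩
  let g' : A' := h * ∏ j, g₀ j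
  have hg' : g' ∉ p' := fun hm => by
    rcases hp'.mem_or_mem hm with h1 | h1
    · exact hh h1
    · obtain ⟨j, -, hj⟩ := hp'.prod_mem_iff.1 h1
      exact hg₀ j hj
  let L' := Localization.Away g'
  let ι' := Spec.map (CommRingCat.ofHom (algebraMap A' L'))
  have hall : RepMono (fun ⦃_⦄ u => ∀ j, P A' (C j) (L j) n u) ι' :=
    repMono_forall fun j => hrep j g' (Dvd.dvd.mul_left (Finset.dvd_prod_of_mem _ (Finset.mem_univ j)) h)
  have hW : RepMono (P A B N n) (ι' ≫ a) := by
    obtain ⟨Z, e, h1, h2, h3, h4⟩ := hall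
    refine ⟨Z, e, h1, h2, h3, fun T v => (h4 T v).trans ?_⟩
    rw [← Category.assoc, ← hbc]
    refine ⟨fun hj => P_of_etale_cover NA C L g (fun j => (hCg j).2.1) n _ (fun z hz hr => ?_) hj,
      fun hP j => P_etale NA (C j) (L j) (g j) (hCg j).2.1 n _ hP⟩
    obtain ⟨t, ht⟩ := hr
    have hzU : z ∈ U := by
      refine hav z (fun hmem => ?_) (fibre_of_mem_relAss A' BA NA z hz)
      let q : PrimeSpectrum L' := v t
      have hq : PrimeSpectrum.comap (algebraMap A' L') q = PrimeSpectrum.comap (algebraMap A' BA) z := ht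
      have h1 : h ∈ (PrimeSpectrum.comap (algebraMap A' L') q).asIdeal := hq ▸ hmem
      exact q.isPrime.ne_top (Ideal.eq_top_of_isUnit_mem _ (Ideal.mul_mem_right _ q.asIdeal h1 : _ * algebraMap A' L' _ ∈ _)
        (by rw [← map_mul]; exact IsLocalization.Away.algebraMap_isUnit g'))
    obtain ⟨j, w, hw⟩ := Set.mem_iUnion.1 hzU
    exact ⟨j, w, hw⟩
  -- an open neighbourhood of `s`
  let y : PrimeSpectrum A' := ⟨p', inferInstance⟩
  haveI : Algebra.FinitePresentation A A' := inferInstance
  haveI : Module.Flat A A' := inferInstance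
  obtain ⟨_, ⟨γ, rfl⟩, hγs, hγ⟩ := (PrimeSpectrum.isTopologicalBasis_basic_opens (R := A)).exists_subset_of_mem_open
    (show (⟨s, inferInstance⟩ : PrimeSpectrum A) ∈
      PrimeSpectrum.comap (algebraMap A A') '' (PrimeSpectrum.basicOpen g' : Set _) from
      ⟨y, hg', PrimeSpectrum.ext (p'.over_def s).symm⟩)
    (PrimeSpectrum.isOpenMap_comap_of_hasGoingDown_of_finitePresentation _ (PrimeSpectrum.basicOpen g').2)
  refine ⟨γ, hγs, ?_⟩
  let κ := Spec.map (CommRingCat.ofHom (algebraMap A (Localization.Away γ)))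
  let W := pullback (ι' ≫ a) κ
  have hflat' : Flat (ι' ≫ a) := by
    haveI : Flat ι' := HasRingHomProperty.Spec_iff.2 (RingHom.flat_algebraMap_iff.2 inferInstance)
    haveI : Flat a := HasRingHomProperty.Spec_iff.2 (RingHom.flat_algebraMap_iff.2 inferInstance)
    infer_instance
  haveI : Flat (pullback.snd (ι' ≫ a) κ) := MorphismProperty.pullback_snd _ _ hflat'
  haveI : Surjective (pullback.snd (ι' ≫ a) κ) := ⟨fun x => by
    let q : PrimeSpectrum (Localization.Away γ) := x
    obtain ⟨t, ht, htq⟩ := hγ (show PrimeSpectrum.comap (algebraMap A (Localization.Away γ)) q ∈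
        (PrimeSpectrum.basicOpen γ : Set (PrimeSpectrum A)) from fun hm =>
      q.isPrime.ne_top (Ideal.eq_top_of_isUnit_mem _ hm (IsLocalization.Away.algebraMap_isUnit γ)))
    obtain ⟨w, hw⟩ : t ∈ Set.range (PrimeSpectrum.comap (algebraMap A' L')) := by
      rw [PrimeSpectrum.localization_away_comap_range L' g']
      exact ht
    obtain ⟨z, -, hz⟩ := Scheme.Pullback.exists_preimage_pullback (f := ι' ≫ a) (g := κ) w x (by
      show PrimeSpectrum.comap (algebraMap A A') (PrimeSpectrum.comap (algebraMap A' L') w) = _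
      rw [hw, htq]
      rfl)
    exact ⟨z, hz⟩⟩
  refine repMono_descend (isGood_P A B N n) (pullback.snd (ι' ≫ a) κ) ?_
  rw [← pullback.condition]
  exact hW.pullback _

end Groth.Agent.PureRep
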