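import Groth.Agent.PureRepLib.Local
import Groth.Agent.S1226

/-!
Flatness in dimensions at least `n` of a pure module is representable by a monomorphism.
-/

set_option autoImplicit false
set_option linter.style.haveILetI false
set_option backward.isDefEq.respectTransparency false
set_option backward.isDefEq.respectTransparency.types false
set_option maxHeartbeats 1000000

universe u

open CategoryTheory CategoryTheory.Limits AlgebraicGeometry TopologicalSpace
open scoped TensorProduct

noncomputable section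

namespace Groth.Agent.PureRep

attribute [local instance] Algebra.TensorProduct.rightAlgebra

variable {A B : Type u} [CommRing A] [CommRing B] [Algebra A B] [Algebra.FinitePresentation A B]
  (N : Type u) [AddCommGroup N] [Module B N] [Module.FinitePresentation B N]

/-- One step of the descending induction. -/
theorem repMono_step (hpure : FlatCA.IsPure A B N) (n : ℕ)
    (h : RepMono (P A B N (n + 1)) (𝟙 (Spec (CommRingCat.of A)))) :
    RepMono (P A B N n) (𝟙 (Spec (CommRingCat.of A))) := by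
  obtain ⟨Z, e, h1, h2, h3, h4⟩ := h
  haveI := h1
  haveI := h2
  haveI := h3
  haveI : LocallyQuasiFinite e := ASp.locallyQuasiFinite_of_mono e
  refine repMono_of_comp e h4 (fun T v hv => P_mono A B N (Nat.le_succ n) _ hv) ?_
  let Q := fun ⦃T : Scheme.{u}⦄ (u : T ⟶ Z) => P A B N n (u ≫ e)
  have hQ : IsGood Q := (isGood_P A B N n).pullback e
  suffices hmain : RepMono Q (𝟙 Z) by
    obtain ⟨Y, j, k1, k2, k3, k4⟩ := hmain
    refine ⟨Y, j, k1, k2, k3, fun T v => (k4 T v).trans ?_⟩
    show P A B N n ((v ≫ 𝟙 Z) ≫ e) ↔ P A B N n (v ≫ e ≫ 𝟙 _)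
    simp
  refine repMono_glue hQ {V | RepMono Q V.1.ι} (TopologicalSpace.Opens.isBasis_iff_nbhd.2 fun {O x} hxO => ?_)
    fun V hV => hV
  obtain ⟨_, ⟨U, hU, rfl⟩, hxU, hUO⟩ := Z.isBasis_affineOpens.exists_subset_of_mem_open hxO O.isOpen
  let R := Γ(Z, U)
  obtain ⟨φ, hφ⟩ : ∃ φ : CommRingCat.of A ⟶ R, Spec.map φ = hU.fromSpec ≫ e := ⟨_, Spec.map_preimage _⟩
  letI : Algebra A R := φ.hom.toAlgebra
  have hlft : LocallyOfFiniteType (Spec.map φ) := by rw [hφ]; infer_instance
  have hlqf : LocallyQuasiFinite (Spec.map φ) := by rw [hφ]; infer_instance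
  haveI : Algebra.FiniteType A R := (HasRingHomProperty.Spec_iff (P := @LocallyOfFiniteType)).1 hlft
  haveI : Algebra.QuasiFinite A R := (HasRingHomProperty.Spec_iff (P := @LocallyQuasiFinite)).1 hlqf
  let B₁ := R ⊗[A] B
  let N₁ := B₁ ⊗[B] N
  haveI : Algebra.IsPushout A B R B₁ := Algebra.IsPushout.symm inferInstance
  haveI : Algebra.FinitePresentation R B₁ := inferInstance
  haveI : Module.FinitePresentation B₁ N₁ := inferInstance
  let f₁ : N →ₗ[B] N₁ := TensorProduct.mk B B₁ N 1
  have hf₁ : IsBaseChange B₁ f₁ := TensorProduct.isBaseChange B N B₁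
  let a := Spec.map (CommRingCat.ofHom (algebraMap A R))
  have ha : a = hU.fromSpec ≫ e := hφ
  have hbc : ∀ (m : ℕ) ⦃T : Scheme.{u}⦄ (u : T ⟶ Spec (CommRingCat.of R)),
      P R B₁ N₁ m u ↔ P A B N m (u ≫ a) := fun m => P_baseChange_iff N N₁ f₁ hf₁ m
  obtain ⟨q, hq⟩ : x ∈ Set.range hU.fromSpec := hU.range_fromSpec.ge hxU
  let p' : Ideal R := PrimeSpectrum.asIdeal q
  haveI : p'.IsPrime := q.isPrime
  haveI : (p'.under A).IsPrime := inferInstance
  haveI : p'.LiesOver (p'.under A) := ⟨rfl⟩
  have hp1 : FlatCA.IsPureAlong R B₁ N₁ p' :=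
    S1226.result N (p'.under A) R B₁ N₁ f₁ hf₁ p' (hpure (p'.under A))
  obtain ⟨g, hg, hrep⟩ := exists_repMono_near N₁ n ((hbc _ _).2 (by
    have := (h4 _ (Spec.map (CommRingCat.ofHom (algebraMap A R)))).1 ⟨hU.fromSpec, ha.symm⟩
    simpa using this)) p' hp1
  let κ := Spec.map (CommRingCat.ofHom (algebraMap R (Localization.Away g)))
  haveI : IsOpenImmersion κ := IsOpenImmersion.of_isLocalization g
  let j : Spec (CommRingCat.of (Localization.Away g)) ⟶ Z := κ ≫ hU.fromSpec
  refine ⟨_, ⟨⟨j.opensRange, isAffineOpen_opensRange j⟩, ?_, rfl⟩, ?_, ?_⟩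
  · have h0 : RepMono Q j := by
      obtain ⟨Y, j', k1, k2, k3, k4⟩ := hrep
      refine ⟨Y, j', k1, k2, k3, fun T v => (k4 T v).trans ((hbc n _).trans ?_)⟩
      show P A B N n ((v ≫ κ) ≫ a) ↔ P A B N n ((v ≫ κ ≫ hU.fromSpec) ≫ e)
      rw [ha]
      simp
    show RepMono Q j.opensRange.ι
    have := h0.pullback j.isoOpensRange.inv
    rwa [Scheme.Hom.isoOpensRange_inv_comp] at this
  · have : q ∈ Set.range κ := by
      show (q : PrimeSpectrum R) ∈ Set.range (PrimeSpectrum.comap (algebraMap R (Localization.Away g)))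
      rw [PrimeSpectrum.localization_away_comap_range (Localization.Away g) g]
      exact hg
    obtain ⟨w, hw⟩ := this
    exact ⟨w, by rw [Scheme.Hom.comp_apply, hw]; exact hq⟩
  · rintro _ ⟨w, rfl⟩
    exact hUO (hU.range_fromSpec.le ⟨κ w, rfl⟩)

/-- Flatness in dimensions at least `n` of a pure module is representable by a monomorphism. -/
theorem repMono_of_isPure (hpure : FlatCA.IsPure A B N) (n : ℕ) :
    RepMono (P A B N n) (𝟙 (Spec (CommRingCat.of A))) := by
  obtain ⟨n₀, h₀⟩ := exists_P_top A B N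
  suffices ∀ d m, n₀ ≤ m + d → RepMono (P A B N m) (𝟙 (Spec (CommRingCat.of A))) from this n₀ n (Nat.le_add_left _ _)
  intro d
  induction d with
  | zero => exact fun m hm => repMono_of_forall fun T v => P_mono A B N (by omega) _ (h₀ _)
  | succ d ih => exact fun m hm => repMono_step N hpure m (ih (m + 1) (by omega))

end Groth.Agent.PureRep
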